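import Mathlib
import Cfsg.Agent.H78.AltOn
import Cfsg.Agent.H42.ProdIso

/-!
# The alternating group of degree 8 from two commuting-type copies of the one of degree 5

`dt a b c d` is the even permutation `(a b)(c d)`; in particular `dt a b b c` is the 3-cycle
`a ↦ b ↦ c ↦ a`.
-/

set_option autoImplicit false

namespace Cfsg.Agent.H63.L3A

open Equiv Equiv.Perm Subgroup

/-- The alternating group of degree 5. -/
abbrev A5 := alternatingGroup (Fin 5)
/-- The alternating group of degree 8. -/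
abbrev A8 := alternatingGroup (Fin 8)

/-- The even permutation `(a b)(c d)`. -/
def dt {n : ℕ} (a b c d : Fin n) (h : a ≠ b ∧ c ≠ d := by decide) : alternatingGroup (Fin n) :=
  ⟨swap a b * swap c d, by
    rw [mem_alternatingGroup, map_mul, sign_swap h.1, sign_swap h.2]; decide⟩

/-- A permutation of `0..4` moved along `f`, with partial inverse `g`. -/
def up (f : Fin 5 → Fin 8) (g : Fin 8 → Option (Fin 5)) (k : Perm (Fin 5)) (j : Fin 8) : Fin 8 :=
  (g j).elim j fun i => f (k i)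

theorem up_mul {f : Fin 5 → Fin 8} {g : Fin 8 → Option (Fin 5)} (h : ∀ i, g (f i) = some i)
    (k l : Perm (Fin 5)) (j : Fin 8) : up f g (k * l) j = up f g k (up f g l j) := by
  unfold up
  rcases e : g j with _ | i
  · simp only [Option.elim_none, e]
  · simp only [Option.elim_some, h, Perm.mul_apply]

/-- A permutation of `0..4` moved to the points `3, 4, 5, 6, 7`. -/
def up1 : Perm (Fin 5) → Fin 8 → Fin 8 :=
  up ![3, 4, 5, 6, 7] ![none, none, none, some 0, some 1, some 2, some 3, some 4]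

/-- A permutation of `0..4` moved to the points `0, 1, 2, 6, 7`. -/
def up2 : Perm (Fin 5) → Fin 8 → Fin 8 :=
  up ![0, 1, 2, 6, 7] ![some 0, some 1, some 2, none, none, none, some 3, some 4]

variable {G : Type*} [Group G]

/-- A homomorphism from degree 8 agreeing with one from degree 5 on the generators agrees
everywhere. -/
theorem agree (φ : A8 →* G) (κ : A5 →* G) (up : Perm (Fin 5) → Fin 8 → Fin 8)
    (h1 : ∀ i, up 1 i = i) (hm : ∀ k l i, up (k * l) i = up k (up l i))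
    (hg : ∀ i : Fin 5, ∀ hi : i ≠ 3, i ≠ 4 →
      ∃ σ : A8, (∀ j, (σ : Perm (Fin 8)) j = up (dt i 3 3 4 ⟨hi, by decide⟩ : A5) j) ∧
        φ σ = κ (dt i 3 3 4 ⟨hi, by decide⟩)) (k : A5) :
    (∃ σ : A8, ∀ j, (σ : Perm (Fin 8)) j = up k j) ∧
      ∀ σ : A8, (∀ j, (σ : Perm (Fin 8)) j = up k j) → φ σ = κ k := by
  let K : Subgroup A5 :=
    { carrier := {k | ∃ σ : A8, (∀ j, (σ : Perm (Fin 8)) j = up k j) ∧ φ σ = κ k}
      one_mem' := ⟨1, fun j => (h1 j).symm, by rw [map_one, map_one]⟩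
      mul_mem' := by
        rintro k l ⟨σ, h2, h3⟩ ⟨τ, h4, h5⟩
        refine ⟨σ * τ, fun j => ?_, by rw [map_mul, map_mul, h3, h5]⟩
        rw [Subgroup.coe_mul, Subgroup.coe_mul, hm, Perm.mul_apply, h4, h2]
      inv_mem' := by
        rintro k ⟨σ, h2, h3⟩
        refine ⟨σ⁻¹, fun j => (σ : Perm (Fin 8)).injective ?_, by rw [map_inv, map_inv, h3]⟩
        rw [h2 (up _ j), ← hm, ← Subgroup.coe_mul, mul_inv_cancel, Subgroup.coe_one, h1,
          ← Perm.mul_apply, ← Subgroup.coe_mul, mul_inv_cancel]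
        rfl }
  obtain ⟨σ, h2, h3⟩ : k ∈ K :=
    H42.PI.alt_mem (u := (3 : Fin 5)) (v := 4) (by decide) (MonoidHom.id A5) K
      (fun i hi hi' => hg i hi hi') k
  refine ⟨⟨σ, h2⟩, fun τ h4 => ?_⟩
  rw [show τ = σ from Subtype.ext (Equiv.ext fun j => (h4 j).trans (h2 j).symm), h3]

/-- Two copies of the alternating group of degree 5 generate one of degree 8, overlapping in the
points 6, 7: each centralises the 3-cycle `(0 1 2)` of the other one, and the product of the two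
3-cycles `(2 3 4)` is an involution. -/
theorem carm (κ κ' : A5 →* G) (hne : κ (dt 2 3 3 4) ≠ 1)
    (h1 : ∀ k, Commute (κ k) (κ' (dt 0 1 1 2))) (h2 : ∀ k, Commute (κ' k) (κ (dt 0 1 1 2)))
    (h3 : (κ (dt 2 3 3 4) * κ' (dt 2 3 3 4)) ^ 2 = 1) :
    ∃ φ : A8 →* G, Function.Injective φ ∧
      (∀ (σ : A8) (k : A5), (∀ j, (σ : Perm (Fin 8)) j = up1 k j) → φ σ = κ k) ∧
      (∀ (σ : A8) (k : A5), (∀ j, (σ : Perm (Fin 8)) j = up2 k j) → φ σ = κ' k) ∧
      κ.range ≤ φ.range ∧ κ'.range ≤ φ.range ∧ φ.range ≤ κ.range ⊔ κ'.range := by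
  let X : Fin 3 → A5 := ![dt 0 3 3 4, dt 1 3 3 4, dt 2 3 3 4]
  have hX3 : ∀ i, X i ^ 3 = 1 := by decide +kernel
  have hX2 : ∀ i j, i ≠ j → (X i * X j) ^ 2 = 1 := by decide +kernel
  have hXc : ∀ i, ∃ n : Fin 3, X i = dt 0 1 1 2 ^ n.1 * dt 2 3 3 4 * (dt 0 1 1 2 ^ n.1)⁻¹ := by
    decide +kernel
  have hmix : ∀ i j, (κ (X i) * κ' (X j)) ^ 2 = 1 := fun i j => by
    obtain ⟨m, hm⟩ := hXc i
    obtain ⟨n, hn⟩ := hXc j
    have e : κ (X i) * κ' (X j) = (κ (dt 0 1 1 2) ^ m.1 * κ' (dt 0 1 1 2) ^ n.1) *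
        (κ (dt 2 3 3 4) * κ' (dt 2 3 3 4)) *
        (κ (dt 0 1 1 2) ^ m.1 * κ' (dt 0 1 1 2) ^ n.1)⁻¹ := by
      have a1 := ((h1 (dt 2 3 3 4)).pow_right n.1).eq
      have a2 := ((h2 (X j)).pow_right m.1).inv_right.eq
      rw [hm, map_mul, map_mul, map_inv, map_pow, mul_assoc, ← a2, hn, map_mul, map_mul, map_inv,
        map_pow, mul_inv_rev]
      simp only [mul_assoc]
      rw [← mul_assoc (κ (dt 2 3 3 4)), a1, mul_assoc]
    rw [e, conj_pow, h3, mul_one, mul_inv_cancel]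
  have hmix' : ∀ i j, (κ' (X j) * κ (X i)) ^ 2 = 1 := fun i j => by
    have e : κ' (X j) * κ (X i) = (κ (X i))⁻¹ * (κ (X i) * κ' (X j)) * (κ (X i))⁻¹⁻¹ := by group
    rw [e, conj_pow, hmix, mul_one, mul_inv_cancel]
  have k3 : ∀ (f : A5 →* G) i, f (X i) ^ 3 = 1 := fun f i => by rw [← map_pow, hX3, map_one]
  have k2 : ∀ (f : A5 →* G) i j, i ≠ j → (f (X i) * f (X j)) ^ 2 = 1 := fun f i j h => by
    rw [← map_mul, ← map_pow, hX2 i j h, map_one]
  let a : Fin 8 → G := ![κ' (X 0), κ' (X 1), κ' (X 2), κ (X 0), κ (X 1), κ (X 2), 1, 1]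
  obtain ⟨φ, hφ⟩ := H78.exists_hom_carmichael_alternating (u := (6 : Fin 8)) (v := 7)
    (by decide) a (fun i h6 h7 => by
      fin_cases i
      exacts [k3 κ' 0, k3 κ' 1, k3 κ' 2, k3 κ 0, k3 κ 1, k3 κ 2, absurd rfl h6, absurd rfl h7])
    (fun i j h6 h7 h6' h7' hij => by
      fin_cases i <;> fin_cases j <;>
        first
        | exact absurd rfl hij
        | exact absurd rfl h6
        | exact absurd rfl h7
        | exact absurd rfl h6'
        | exact absurd rfl h7'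
        | exact hmix _ _
        | exact hmix' _ _
        | exact k2 _ _ _ (by decide))
  have g1 := agree φ κ up1 (by decide +kernel) (up_mul (by decide)) fun i h3 h4 => by
    fin_cases i
    exacts [⟨dt 3 6 6 7, show ∀ j, (dt 3 6 6 7 : A8).1 j = up1 (dt 0 3 3 4 : A5).1 j by decide +kernel,
        hφ 3 (by decide) (by decide)⟩,
      ⟨dt 4 6 6 7, show ∀ j, (dt 4 6 6 7 : A8).1 j = up1 (dt 1 3 3 4 : A5).1 j by decide +kernel,
        hφ 4 (by decide) (by decide)⟩,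
      ⟨dt 5 6 6 7, show ∀ j, (dt 5 6 6 7 : A8).1 j = up1 (dt 2 3 3 4 : A5).1 j by decide +kernel,
        hφ 5 (by decide) (by decide)⟩, absurd rfl h3, absurd rfl h4]
  have g2 := agree φ κ' up2 (by decide +kernel) (up_mul (by decide)) fun i h3 h4 => by
    fin_cases i
    exacts [⟨dt 0 6 6 7, show ∀ j, (dt 0 6 6 7 : A8).1 j = up2 (dt 0 3 3 4 : A5).1 j by decide +kernel,
        hφ 0 (by decide) (by decide)⟩,
      ⟨dt 1 6 6 7, show ∀ j, (dt 1 6 6 7 : A8).1 j = up2 (dt 1 3 3 4 : A5).1 j by decide +kernel,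
        hφ 1 (by decide) (by decide)⟩,
      ⟨dt 2 6 6 7, show ∀ j, (dt 2 6 6 7 : A8).1 j = up2 (dt 2 3 3 4 : A5).1 j by decide +kernel,
        hφ 2 (by decide) (by decide)⟩, absurd rfl h3, absurd rfl h4]
  have := alternatingGroup.isSimpleGroup (α := Fin 8) (by simp)
  refine ⟨φ, ?_, fun σ k => (g1 k).2 σ, fun σ k => (g2 k).2 σ, ?_, ?_, ?_⟩
  · rcases (MonoidHom.normal_ker φ).eq_bot_or_eq_top with h | h
    · exact (MonoidHom.ker_eq_bot_iff φ).1 h
    · exact absurd ((hφ 5 (by decide) (by decide)).symm.trans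
        (MonoidHom.mem_ker.1 (h ▸ mem_top _))) hne
  · rintro _ ⟨k, rfl⟩
    obtain ⟨σ, hσ⟩ := (g1 k).1
    exact ⟨σ, (g1 k).2 σ hσ⟩
  · rintro _ ⟨k, rfl⟩
    obtain ⟨σ, hσ⟩ := (g2 k).1
    exact ⟨σ, (g2 k).2 σ hσ⟩
  · rintro _ ⟨σ, rfl⟩
    refine H42.PI.alt_mem (u := (6 : Fin 8)) (v := 7) (by decide) φ _ (fun i h6 h7 => ?_) σ
    rw [hφ i h6 h7]
    fin_cases i
    exacts [mem_sup_right ⟨_, rfl⟩, mem_sup_right ⟨_, rfl⟩, mem_sup_right ⟨_, rfl⟩,
      mem_sup_left ⟨_, rfl⟩, mem_sup_left ⟨_, rfl⟩, mem_sup_left ⟨_, rfl⟩, absurd rfl h6,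
      absurd rfl h7]

end Cfsg.Agent.H63.L3A
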