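import Mathlib
import Cfsg.Agent.H89.StepA
import Cfsg.Agent.H4.Schmidt
import Cfsg.Agent.S3331
import Cfsg.Agent.H63.L3A8Car

/-!
# A group containing the alternating group of degree 8 with small local data
-/

set_option autoImplicit false
set_option maxRecDepth 100000

namespace Cfsg.Agent.H63.L3A

open Equiv Equiv.Perm Subgroup
open Cfsg.Agent.H89 Cfsg.Agent.H89.TG Cfsg.Agent.H89.Rec Cfsg.Agent.H89.HA

theorem inverts {L : Type*} [Group L] [Finite L] {R : Subgroup L} [R.Normal] {τ : L}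
    (h2 : τ * τ = 1) (h : ∀ r ∈ R, Commute r τ → r = 1) {r : L} (hr : r ∈ R) :
    τ * r * τ⁻¹ = r⁻¹ := by
  have h1 : MonoidHom.FixedPointFree (MulAut.conjNormal (H := R) τ) := fun g hg =>
    Subtype.ext (h g g.2 (mul_inv_eq_iff_eq_mul.1 (congrArg Subtype.val hg)).symm)
  have h3 : Function.Involutive (MulAut.conjNormal (H := R) τ) := fun g => by
    rw [← MulAut.mul_apply, ← map_mul, h2, map_one, MulAut.one_apply]
  exact congrArg Subtype.val (congrFun (h1.coe_eq_inv_of_involutive h3) ⟨r, hr⟩)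

theorem card_mod_three {H : Type*} [Group H] [Finite H] {N : Subgroup H} [N.Normal] {y : H}
    (h3 : y ^ 3 = 1) (h : ∀ n ∈ N, Commute n y → n = 1) : Nat.card N % 3 = 1 := by
  classical
  have : Fact (Nat.Prime 3) := ⟨by norm_num⟩
  have := Fintype.ofFinite N
  let f : Function.End N := fun n => MulAut.conjNormal (H := N) y n
  have hf : f ^ 3 ^ 1 = 1 := by
    funext n
    show MulAut.conjNormal y (MulAut.conjNormal y (MulAut.conjNormal y n)) = n
    rw [← MulAut.mul_apply, ← MulAut.mul_apply, ← map_mul, ← map_mul, ← pow_three', h3, map_one,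
      MulAut.one_apply]
  have h1 := Equiv.Perm.card_fixedPoints_modEq hf
  have h2 : Fintype.card f.fixedPoints = 1 := Fintype.card_eq_one_iff.2
    ⟨⟨1, map_one (MulAut.conjNormal (H := N) y)⟩, fun n => Subtype.ext (Subtype.ext
      (h _ n.1.2 (mul_inv_eq_iff_eq_mul.1 (congrArg Subtype.val n.2)).symm))⟩
  rwa [h2, ← Nat.card_eq_fintype_card] at h1

/-- The centraliser of the central involution is not larger than the model. -/
theorem card_le {L : Type*} [Group L] [Finite L] (ι : M →* L) (hi : Function.Injective ι)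
    (hz : ∀ g, Commute g (ι z)) (h64 : ¬ 128 ∣ Nat.card L)
    (hy : ∀ g, Commute g (ι x) → g ∈ zpowers (ι (x * z)))
    (hV : ∀ g, Commute g (ι u) → Commute g (ι y1) → (orderOf g).Coprime 6 → g = 1) :
    Nat.card L ≤ 192 := by
  have : Fact (Nat.Prime 3) := ⟨by norm_num⟩
  have : Fact (Nat.Prime 2) := ⟨by norm_num⟩
  have zz : ι z * ι z = 1 := by rw [← map_mul, show z * z = 1 by hd, map_one]
  have z1 : ι z ≠ 1 := fun e => absurd (hi (e.trans (map_one ι).symm)) (by hd)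
  have x3 : ι x ^ 3 = 1 := by rw [← map_pow, show x ^ 3 = 1 by hd, map_one]
  have hZc : zpowers (ι z) ≤ center L := zpowers_le.2 (mem_center_iff.2 fun g => (hz g).eq)
  have : (zpowers (ι z)).Normal := ⟨fun n hn g => by
    rwa [mem_center_iff.1 (hZc hn) g, mul_inv_cancel_right]⟩
  have cZ : Nat.card (zpowers (ι z)) = 2 := by
    rw [Nat.card_zpowers, orderOf_eq_prime (by rw [sq, zz]) z1]
  let π := QuotientGroup.mk' (zpowers (ι z))
  have hπ : ∀ g, π g = 1 ↔ g = 1 ∨ g = ι z := fun g =>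
    (QuotientGroup.eq_one_iff g).trans
      ⟨H89.eq_of_mem_zpowers_two zz, fun h => h.elim (· ▸ one_mem _) (· ▸ mem_zpowers _)⟩
  have cL : Nat.card L = Nat.card (L ⧸ zpowers (ι z)) * 2 := by
    rw [(zpowers (ι z)).card_eq_card_quotient_mul_card_subgroup, cZ]
  have d192 : 192 ∣ Nat.card L := HA.card ▸ Subgroup.card_dvd_of_injective ι hi
  have px3 : π (ι x) ^ 3 = 1 := by rw [← map_pow, x3, map_one]
  have ox : orderOf (π (ι x)) = 3 := orderOf_eq_prime px3 fun e => by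
    rcases (hπ _).1 e with e | e
    exacts [absurd (hi (e.trans (map_one ι).symm)) (by hd), absurd (hi e) (by hd)]
  have hC : ∀ g, Commute g (π (ι x)) → g ∈ zpowers (π (ι x)) := fun g hg => by
    obtain ⟨l, rfl⟩ : ∃ l, π l = g := QuotientGroup.mk'_surjective _ g
    have h1 : π (l * ι x * l⁻¹ * (ι x)⁻¹) = 1 := by
      rw [map_mul, map_mul, map_mul, map_inv, map_inv, hg.eq]; group
    have h2 : Commute l (ι x) := by
      rcases (hπ _).1 h1 with e | e
      · exact mul_inv_eq_iff_eq_mul.1 (mul_inv_eq_one.1 e)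
      · have e2 := congrArg (· ^ 3) (mul_inv_eq_iff_eq_mul.1 e)
        simp only [conj_pow, (hz (ι x)).symm.mul_pow, x3, pow_three' (ι z), zz] at e2
        exact absurd (by simpa using e2.symm) z1
    obtain ⟨n, rfl⟩ := hy l h2
    refine ⟨n, ?_⟩
    show _ = π (_ ^ n)
    rw [map_zpow, map_mul, map_mul, (hπ _).2 (.inr rfl), mul_one]
  have fpf : ∀ N : Subgroup (L ⧸ zpowers (ι z)), (Nat.card N).Coprime 3 →
      ∀ n ∈ N, Commute n (π (ι x)) → n = 1 := fun N hN n hn hc => by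
    have a1 := orderOf_dvd_natCard (⟨n, hC n hc⟩ : zpowers (π (ι x)))
    have a2 := orderOf_dvd_natCard (⟨n, hn⟩ : N)
    rw [Nat.card_zpowers, ox, Subgroup.orderOf_mk] at a1
    rw [Subgroup.orderOf_mk] at a2
    exact orderOf_eq_one_iff.1 (Nat.eq_one_of_dvd_coprimes hN a2 a1)
  rcases S3331.result (zpowers (π (ι x))) (by rw [Nat.card_zpowers, ox]) (le_antisymm
    (fun g hg => hC g (hg _ (mem_zpowers _)).symm) (by
      rintro _ ⟨n, rfl⟩ _ ⟨m, rfl⟩
      exact Commute.zpow_zpow_self _ _ _)) with ⟨N, hN, hnil, hcop, hq⟩ | ⟨N, hN, -, h2, ⟨e⟩⟩ | ⟨⟨e⟩⟩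
  · let ρ := (QuotientGroup.mk' N).comp π
    have cH := N.card_eq_card_quotient_mul_card_subgroup
    have hu : π (ι u) ∈ N := by
      rw [← QuotientGroup.eq_one_iff]
      change ρ (ι u) = 1
      have u2 : ρ (ι u) * ρ (ι u) = 1 := by
        rw [← map_mul, ← map_mul, show u * u = 1 by hd, map_one, map_one]
      have u3 : ρ (ι u) * (ρ (ι x) * ρ (ι u) * (ρ (ι x))⁻¹) *
          ((ρ (ι x))⁻¹ * ρ (ι u) * ρ (ι x)) = 1 := by
        simp only [← map_mul, ← map_inv]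
        rw [show u * (x * u * x⁻¹) * (x⁻¹ * u * x) = 1 by hd, map_one, map_one]
      rcases hq with hq | ⟨⟨e⟩⟩
      · have := pow_card_eq_one' (x := ρ (ι u))
        rwa [hq, pow_three', u2, one_mul] at this
      · have key : ∀ p q : Perm (Fin 3), p * p = 1 → p * (q * p * q⁻¹) * (q⁻¹ * p * q) = 1 →
            p = 1 := by decide +kernel
        refine e.map_eq_one_iff.1 (key _ (e (ρ (ι x))) (by rw [← map_mul, u2, map_one]) ?_)
        simp only [← map_mul e, ← map_inv e]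
        rw [u3, map_one]
    have h2 : ∀ p, p.Prime → p ∣ Nat.card N → p = 2 := fun p hp hd' => by
      by_contra p2
      have : Fact p.Prime := ⟨hp⟩
      have p6 : p.Coprime 6 := by
        rw [show 6 = 2 * 3 by rfl]
        exact ((Nat.coprime_primes hp Nat.prime_two).2 p2).mul_right (hcop.coprime_dvd_left hd')
      have hn : Group.IsNilpotent (N.comap π) :=
        Subgroup.isNilpotent_of_ker_le_center (π.subgroupComap N) fun g hg =>
          mem_center_iff.2 fun k => Subtype.ext (mem_center_iff.1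
            (hZc ((QuotientGroup.eq_one_iff _).1 (congrArg Subtype.val hg))) k)
      obtain ⟨P⟩ : Nonempty (Sylow p (N.comap π)) := inferInstance
      have := P.characteristic_of_normal inferInstance
      have hR : ((P : Subgroup (N.comap π)).map (N.comap π).subtype).Normal := inferInstance
      set R := (P : Subgroup (N.comap π)).map (N.comap π).subtype with hRd
      have hRp : IsPGroup p R := P.2.map _
      have ho : ∀ r ∈ R, (orderOf r).Coprime 6 := fun r hr => by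
        obtain ⟨k, hk⟩ := IsPGroup.iff_orderOf.1 hRp ⟨r, hr⟩
        rw [Subgroup.orderOf_mk] at hk
        exact hk ▸ p6.pow_left k
      have ou : orderOf (ι u) ∣ 6 := orderOf_dvd_of_pow_eq_one (by
        rw [← map_pow, show u ^ 6 = 1 by hd, map_one])
      have i1 : ∀ r ∈ R, ι y1 * r * (ι y1)⁻¹ = r⁻¹ := fun r hr =>
        inverts (by rw [← map_mul, show y1 * y1 = 1 by hd, map_one]) (fun r hr hc => hV r
          (H4.commute_of_isNilpotent_of_coprime hn (map_subtype_le _ hr) hu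
            ((ho r hr).coprime_dvd_right ou)) hc (ho r hr)) hr
      have hb : R = ⊥ := eq_bot_iff.2 fun r hr => by
        have e : ι x = ι y1 * (ι x * ι y1 * (ι x)⁻¹) := by
          simp only [← map_mul, ← map_inv]
          rw [← show x = y1 * (x * y1 * x⁻¹) by hd]
        have i2 := i1 _ (hR.conj_mem r hr (ι x)⁻¹)
        have i3 := i1 _ (inv_mem hr)
        have hc : Commute r (ι x) := by
          refine (mul_inv_eq_iff_eq_mul.1 ?_).symm
          calc ι x * r * (ι x)⁻¹ = ι y1 * (ι x * (ι y1 * ((ι x)⁻¹ * r * (ι x)⁻¹⁻¹) * (ι y1)⁻¹) *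
                (ι x)⁻¹) * (ι y1)⁻¹ := by conv_lhs => rw [e]
                                          group
            _ = ι y1 * r⁻¹ * (ι y1)⁻¹ := by rw [i2]; group
            _ = r := by rw [i3, inv_inv]
        have a1 := orderOf_dvd_natCard (⟨r, hy r hc⟩ : zpowers (ι (x * z)))
        rw [Nat.card_zpowers, Subgroup.orderOf_mk] at a1
        have a2 : orderOf (ι (x * z)) ∣ 6 := orderOf_dvd_of_pow_eq_one (by
          rw [← map_pow, show (x * z) ^ 6 = 1 by hd, map_one])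
        exact orderOf_eq_one_iff.1 (Nat.eq_one_of_dvd_coprimes (ho r hr) dvd_rfl (a1.trans a2))
      have hP : (P : Subgroup (N.comap π)) = ⊥ :=
        (map_eq_bot_iff_of_injective _ (subtype_injective _)).1 hb
      exact P.ne_bot_of_dvd_card (hd'.trans (card_dvd_of_surjective (π.subgroupComap N)
        (π.subgroupComap_surjective_of_surjective N (QuotientGroup.mk'_surjective _)))) hP
    obtain ⟨k, hk⟩ : ∃ k, Nat.card N = 2 ^ k :=
      ⟨_, Nat.eq_prime_pow_of_unique_prime_dvd Nat.card_pos.ne' fun hp h => h2 _ hp h⟩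
    obtain ⟨m, hm⟩ : ∃ m, Nat.card L = 3 * 2 ^ m := by
      rcases hq with hq | ⟨⟨e⟩⟩
      · exact ⟨k + 1, by rw [cL, cH, hq, hk]; ring⟩
      · exact ⟨k + 2, by
          rw [cL, cH, Nat.card_congr e.toEquiv, hk, Nat.card_perm]; simp [Nat.factorial]; ring⟩
    rw [hm] at h64 ⊢
    have : m ≤ 6 := by
      by_contra h
      exact h64 ((pow_dvd_pow 2 (show 7 ≤ m by omega)).mul_left 3)
    have := Nat.pow_le_pow_right two_pos this
    omega
  · exfalso
    obtain ⟨k, hk⟩ := IsPGroup.iff_card.1 (show IsPGroup 2 N from fun g =>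
      ⟨1, Subtype.ext (by simpa using h2 g g.2)⟩)
    have h3 := card_mod_three px3 (fpf N (hk ▸ Nat.Coprime.pow_left k (by norm_num)))
    rw [cL, N.card_eq_card_quotient_mul_card_subgroup, Nat.card_congr e.toEquiv,
      nat_card_alternatingGroup, hk] at h64 d192
    rw [hk] at h3
    simp only [Nat.card_eq_fintype_card, Fintype.card_fin, Nat.factorial] at h64 d192
    rcases k with _ | _ | _ | _ | k
    · omega
    · omega
    · omega
    · omega
    · exact h64 ⟨15 * 2 ^ k, by ring⟩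
  · rw [cL, Nat.card_congr e.toEquiv, H57.card_L27] at d192
    omega

/-- The involution `(03)(14)(25)(67)`. -/
def s8 : A8 := dt 0 3 1 4 * dt 2 5 6 7
/-- The element `(012)(345)`. -/
def y8 : A8 := dt 0 1 1 2 * dt 3 4 4 5

theorem exists_j : ∃ j : M →* A8, Function.Injective j ∧ j z = s8 ∧ j x = y8 ∧
    j u = dt 0 3 1 4 ∧ j y1 = dt 0 1 3 4 ∧ j c = dt 2 5 6 7 ∧ j cb = dt 2 6 5 7 ∧
    dt 1 3 5 7 * j v * (dt 1 3 5 7)⁻¹ = s8 ∧ dt 3 4 5 7 * j v2 * (dt 3 4 5 7)⁻¹ = s8 ∧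
    dt 1 4 4 3 * j t * (dt 1 4 4 3)⁻¹ = s8 := by
  obtain ⟨j, hj⟩ := HA.exists_hom (G := A8) (l := [dt 0 7 7 3 * dt 3 6 1 2 * dt 2 4 4 5,
    dt 0 5 5 3 * dt 3 2 1 6 * dt 6 4 4 7, y8, dt 0 4 1 3 * dt 2 5 6 7]) rfl
    (by unfold H44.Sat; decide +kernel)
  simp only [List.map_cons, List.map_nil, List.cons.injEq, and_true] at hj
  obtain ⟨h1, h2, h3, h4⟩ := hj
  have hz : j z = s8 := by rw [show z = a * a by hd, map_mul, h1]; decide +kernel
  refine ⟨j, inj_of_z (by rw [hz]; decide +kernel) HA.nrm, hz, h3, ?_, ?_, ?_, ?_, ?_, ?_, ?_⟩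
  · rw [show u = a * x * a * b * x⁻¹ by hd]
    simp only [map_mul, map_inv, h1, h2, h3]; decide +kernel
  · rw [show y1 = a * a * t by hd]
    simp only [map_mul, h1, h4]; decide +kernel
  · rw [show c = a * x * a * b⁻¹ * x⁻¹ by hd]
    simp only [map_mul, map_inv, h1, h2, h3]; decide +kernel
  · rw [show cb = a * t * x * a * b * x⁻¹ by hd]
    simp only [map_mul, map_inv, h1, h2, h3, h4]; decide +kernel
  · rw [show v = a * b by hd]
    simp only [map_mul, h1, h2]; decide +kernel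
  · rw [show v2 = a * x⁻¹ * a * b * x by hd]
    simp only [map_mul, map_inv, h1, h2, h3]; decide +kernel
  · rw [h4]; decide +kernel

theorem card_A8 : Nat.card A8 = 20160 := by
  rw [nat_card_alternatingGroup]; simp [Nat.factorial]

variable {G : Type*} [Group G] [Finite G]

/-- Recognition from the centraliser of an involution of type `2 ^ 4`. -/
theorem endCore (φ : A8 →* G) (hφ : Function.Injective φ)
    (h64 : ¬ 128 ∣ Nat.card (centralizer {φ s8} : Subgroup G))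
    (hy : ∀ g, Commute g (φ y8) → Commute g (φ s8) → g ∈ zpowers (φ (y8 * s8)))
    (hV : ∀ g, Commute g (φ s8) → Commute g (φ (dt 0 3 1 4)) → Commute g (φ (dt 0 1 3 4)) →
      (orderOf g).Coprime 6 → g = 1) :
    Nonempty (G ≃* A8) ∨ Nonempty (G ≃* alternatingGroup (Fin 9)) := by
  obtain ⟨j, hj, jz, jx, ju, jy, -, -, jv, -⟩ := exists_j
  have hm : ∀ g : G, g ∈ centralizer {φ s8} ↔ Commute g (φ s8) := fun g =>
    mem_centralizer_singleton_iff
  let ι : M →* centralizer {φ s8} := (φ.comp j).codRestrict _ fun r =>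
    (hm _).2 (jz ▸ ((zc r).map j).map φ)
  have hc := card_le ι (fun p q e => hj (hφ (congrArg Subtype.val e)))
    (fun g => Subtype.ext (show (g : G) * φ (j z) = φ (j z) * g by
      rw [jz]; exact (hm _).1 g.2)) h64
    (fun g hg => by
      obtain ⟨n, hn⟩ := hy g (jx ▸ congrArg Subtype.val hg.eq) ((hm _).1 g.2)
      refine ⟨n, Subtype.ext ?_⟩
      show φ (j (x * z)) ^ n = g
      rw [map_mul j, jx, jz]
      exact hn)
    (fun g h1 h2 h3 => Subtype.ext (hV g ((hm _).1 g.2) (ju ▸ congrArg Subtype.val h1.eq)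
      (jy ▸ congrArg Subtype.val h2.eq) (by rwa [Subgroup.orderOf_coe])))
  have hE : Emb (φ.comp j) z := .of_card_le (hφ.comp hj) zc (by hd) (by hd)
    (by rw [HA.card, MonoidHom.comp_apply, jz]; exact hc)
  rcases HA.main hE (r := v) (by hs) (by hd) ⟨φ (dt 1 3 5 7), by
    show _ * φ _ * _ = φ _
    rw [← map_inv, ← map_mul, ← map_mul, jv, jz]⟩ with ⟨N, hN, -, -, h8, ⟨e⟩⟩ | h
  · have h1 := Nat.le_of_dvd Nat.card_pos (Subgroup.card_dvd_of_injective φ hφ)
    have h2 : Nat.card (Matrix.ProjectiveSpecialLinearGroup (Fin 3) (ZMod 2)) ≤ 512 :=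
      (Nat.card_le_card_of_surjective _ (QuotientGroup.mk'_surjective _)).trans
        ((Nat.card_le_card_of_injective _ Subtype.val_injective).trans (by
          simp [Matrix, Nat.card_eq_fintype_card]))
    rw [card_A8, N.card_eq_card_quotient_mul_card_subgroup, Nat.card_congr e.toEquiv, h8] at h1
    omega
  · exact h

theorem cent1 (σ : Perm (Fin 8)) (h1 : Commute σ (dt 0 3 1 4 : A8)) (h2 : Commute σ (dt 0 1 3 4 : A8))
    (h3 : Commute σ s8) : σ ^ 4 = 1 := by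
  have key : ∀ a b c : Fin 8, ∀ F : Fin 8 → Fin 8, F = ![a, (dt 0 1 3 4 : A8).1 a, b,
      (dt 0 3 1 4 : A8).1 a, (dt 0 3 1 4 : A8).1 ((dt 0 1 3 4 : A8).1 a), s8.1 b, c, s8.1 c] →
      (dt 0 3 1 4 : A8).1 b = b → (dt 0 3 1 4 : A8).1 c = c → Function.Injective F →
      ∀ i, F (F (F (F i))) = i := by
    simp only [forall_eq]; decide +kernel
  have a1 : ∀ i, σ ((dt 0 3 1 4 : A8).1 i) = (dt 0 3 1 4 : A8).1 (σ i) := DFunLike.congr_fun h1.eq
  have a2 : ∀ i, σ ((dt 0 1 3 4 : A8).1 i) = (dt 0 1 3 4 : A8).1 (σ i) := DFunLike.congr_fun h2.eq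
  have a3 : ∀ i, σ (s8.1 i) = s8.1 (σ i) := DFunLike.congr_fun h3.eq
  refine Equiv.ext (key (σ 0) (σ 2) (σ 6) σ (funext fun i => ?_) (a1 2).symm (a1 6).symm
    σ.injective)
  fin_cases i
  exacts [rfl, a2 0, rfl, a1 0, (a1 1).trans (congrArg _ (a2 0)), a3 2, rfl, a3 6]

theorem cent2 (σ : A8) (h1 : Commute σ y8) (h3 : Commute σ s8) : σ ∈ zpowers (y8 * s8) := by
  have key : ∀ a c : Fin 8, ∀ F : Fin 8 → Fin 8, F = ![a, y8.1 a, y8.1 (y8.1 a), s8.1 a,
      s8.1 (y8.1 a), s8.1 (y8.1 (y8.1 a)), c, s8.1 c] → Function.Injective F →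
      ∃ n : Fin 6, (∀ i, F i = ((y8 * s8) ^ n.1).1 i) ∨
        ∀ i, F i = (((y8 * s8) ^ n.1).1 * swap 6 7 : Perm (Fin 8)) i := by
    simp only [forall_eq]; decide +kernel
  have a1 : ∀ i, σ.1 (y8.1 i) = y8.1 (σ.1 i) := DFunLike.congr_fun (congrArg Subtype.val h1.eq)
  have a3 : ∀ i, σ.1 (s8.1 i) = s8.1 (σ.1 i) := DFunLike.congr_fun (congrArg Subtype.val h3.eq)
  have b2 : σ.1 2 = y8.1 (y8.1 (σ.1 0)) := (a1 1).trans (congrArg _ (a1 0))
  obtain ⟨n, h | h⟩ := key (σ.1 0) (σ.1 6) σ.1 (funext fun i => by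
    fin_cases i
    exacts [rfl, a1 0, b2, a3 0, (a3 1).trans (congrArg _ (a1 0)), (a3 2).trans (congrArg _ b2),
      rfl, a3 6]) σ.1.injective
  · exact (Subtype.ext (Equiv.ext h) : σ = _) ▸ npow_mem_zpowers _ _
  · have := mem_alternatingGroup.1 σ.2
    rw [Equiv.ext h, map_mul, mem_alternatingGroup.1 ((y8 * s8) ^ n.1).2,
      sign_swap (by decide)] at this
    exact absurd this (by decide)

/-- The order of a Sylow 2-subgroup. -/
theorem not_dvd (φ : A8 →* G) (hφ : Function.Injective φ)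
    (hne : ¬ IsConj (φ s8) (φ (dt 3 4 5 6)))
    (hV : ∀ g, Commute g (φ (dt 3 4 5 6)) → Commute g (φ (dt 3 5 4 6)) → g ∈ φ.range) :
    ¬ 128 ∣ Nat.card G := fun hd' => by
  have : Fact (Nat.Prime 2) := ⟨by norm_num⟩
  obtain ⟨j, hj, jz, -, ju, jy, jc, jcb, jv, jv2, jt⟩ := exists_j
  have cjA : ∀ {p q : A8} (k : A8), k * p * k⁻¹ = q → IsConj (φ p) (φ q) := fun k e =>
    φ.map_isConj (isConj_iff.2 ⟨k, e⟩)
  have cjM : ∀ {p q : M} (d : M), d * p * d⁻¹ = q → IsConj (φ (j q)) (φ (j p)) := fun d e =>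
    (φ.map_isConj (j.map_isConj (isConj_iff.2 ⟨d, e⟩))).symm
  have hD : ∀ r, Msk mD r → IsConj (φ s8) (φ (j r)) := fun r hr => by
    obtain ⟨d, e | e | e | e⟩ := (by hd : ∀ r : M, Msk mD r → ∃ d, d * r * d⁻¹ = z ∨
      d * r * d⁻¹ = v ∨ d * r * d⁻¹ = v2 ∨ d * r * d⁻¹ = t) r hr
    exacts [jz ▸ cjM d e, (cjA _ jv).symm.trans (cjM d e), (cjA _ jv2).symm.trans (cjM d e),
      (cjA _ jt).symm.trans (cjM d e)]
  have hN : ∀ r, r * r = 1 → r ≠ 1 → ¬ Msk mD r → IsConj (φ (dt 3 4 5 6)) (φ (j r)) :=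
    fun r h1 h2 h3 => by
    obtain ⟨d, e | e⟩ := (by hd : ∀ r : M, r * r = 1 → r ≠ 1 → ¬ Msk mD r →
      ∃ d, d * r * d⁻¹ = u ∨ d * r * d⁻¹ = y1) r h1 h2 h3
    · exact (cjA (dt 0 6 6 3 * dt 3 1 1 5) (by rw [ju]; decide +kernel)).trans (cjM d e)
    · exact (cjA (dt 1 3 3 4 * dt 1 3 3 4 * dt 0 6 6 3 * dt 3 1 1 5)
        (by rw [jy]; decide +kernel)).trans (cjM d e)
  have cS : Nat.card (S.map (φ.comp j)) = 64 :=
    (card_map_of_injective (f := φ.comp j) (hφ.comp hj)).trans card_S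
  obtain ⟨K, hK, hSK⟩ := Sylow.exists_subgroup_card_pow_succ (p := 2) (n := 6) hd' cS
  have hn : ((S.map (φ.comp j)).subgroupOf K).Normal := normal_of_index_eq_two (by
    have := ((S.map (φ.comp j)).subgroupOf K).index_mul_card
    rw [Nat.card_congr (subgroupOfEquivOfLe hSK).toEquiv, cS, hK] at this
    omega)
  have hle : K ≤ φ.range := fun g hg => by
    have h1 : ∀ p ∈ S, ∃ q ∈ S, g * φ (j p) * g⁻¹ = φ (j q) := fun p hp => by
      obtain ⟨q, hq, e⟩ := hn.conj_mem ⟨_, hSK ⟨p, hp, rfl⟩⟩ ⟨p, hp, rfl⟩ ⟨g, hg⟩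
      exact ⟨q, hq, e.symm⟩
    have h2 : ∀ {p q : M}, g * φ (j p) * g⁻¹ = φ (j q) → p * p = 1 → p ≠ 1 →
        q * q = 1 ∧ q ≠ 1 ∧ (Msk mD p ↔ Msk mD q) := fun {p q} e h1 h2 => by
      have a1 : q * q = 1 := hj (hφ (by
        rw [map_mul, map_mul, ← e, conj_mul, ← map_mul, ← map_mul, h1]; simp))
      have a2 : q ≠ 1 := fun a2 => h2 (hj (hφ (by simpa [a2] using e)))
      have a3 := isConj_iff.2 ⟨g, e⟩
      refine ⟨a1, a2, ⟨fun h => by_contra fun h' => ?_, fun h => by_contra fun h' => ?_⟩⟩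
      · exact hne (((hD p h).trans a3).trans (hN q a1 a2 h').symm)
      · exact hne (((hD q h).trans a3.symm).trans (hN p h1 h2 h').symm)
    have h3 : ∀ {p q p' q' : M}, g * φ (j p) * g⁻¹ = φ (j q) → g * φ (j p') * g⁻¹ = φ (j q') →
        g * φ (j (p * p')) * g⁻¹ = φ (j (q * q')) := fun e e' => by
      simp only [map_mul, ← e, ← e', conj_mul]
    obtain ⟨c1, m1, e1⟩ := h1 c (by hs)
    obtain ⟨c2, m2, e2⟩ := h1 cb (by hs)
    obtain ⟨c3, m3, e3⟩ := h1 u (by hs)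
    obtain ⟨a1, a2, a3⟩ := h2 e1 (by hd) (by hd)
    obtain ⟨b1, b2, b3⟩ := h2 e2 (by hd) (by hd)
    obtain ⟨d1, d2, d3⟩ := h2 e3 (by hd) (by hd)
    obtain ⟨f1, f2, f3⟩ := h2 (h3 e1 e2) (by hd) (by hd)
    obtain ⟨d, hd1⟩ := (by hs : ∀ c1 ∈ S, c1 * c1 = 1 → c1 ≠ 1 → ¬ Msk mD c1 →
      ∀ c2 ∈ S, c2 * c2 = 1 → c2 ≠ 1 → ¬ Msk mD c2 → c1 * c2 * (c1 * c2) = 1 → c1 * c2 ≠ 1 →
      ¬ Msk mD (c1 * c2) → ∀ c3 ∈ S, c3 * c3 = 1 → c3 ≠ 1 → ¬ Msk mD c3 → Msk mD (c1 * c3) →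
      Msk mD (c2 * c3) → ∃ d, (d * c1 * d⁻¹ = c ∧ d * c2 * d⁻¹ = cb) ∨
        (d * c1 * d⁻¹ = cb ∧ d * c2 * d⁻¹ = c * cb) ∨ (d * c1 * d⁻¹ = c * cb ∧ d * c2 * d⁻¹ = c))
      c1 m1 a1 a2 (fun h => absurd (a3.2 h) (by hd)) c2 m2 b1 b2
      (fun h => absurd (b3.2 h) (by hd)) f1 f2 (fun h => absurd (f3.2 h) (by hd)) c3 m3 d1 d2
      (fun h => absurd (d3.2 h) (by hd)) ((h2 (h3 e1 e3) (by hd) (by hd)).2.2.1 (by hd))
      ((h2 (h3 e2 e3) (by hd) (by hd)).2.2.1 (by hd))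
    obtain ⟨k, k1, k2⟩ : ∃ k : A8, k * j c1 * k⁻¹ = dt 3 4 5 6 ∧ k * j c2 * k⁻¹ = dt 3 5 4 6 := by
      have h4 : ∀ (w : A8) (p q : M), d * p * d⁻¹ = q → w * j d * j p * (w * j d)⁻¹ =
          w * j q * w⁻¹ := fun w p q e => by rw [← e, map_mul, map_mul, map_inv]; group
      rcases hd1 with ⟨e, e'⟩ | ⟨e, e'⟩ | ⟨e, e'⟩
      · refine ⟨(dt 2 3 3 5 * dt 5 7 7 4)⁻¹ * j d, ?_, ?_⟩ <;>
          simp only [h4 _ _ _ e, h4 _ _ _ e', jc, jcb] <;> decide +kernel
      · refine ⟨(dt 5 6 6 7 * dt 2 3 3 5 * dt 5 7 7 4)⁻¹ * j d, ?_, ?_⟩ <;>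
          simp only [h4 _ _ _ e, h4 _ _ _ e', jc, jcb, map_mul] <;> decide +kernel
      · refine ⟨(dt 5 6 6 7 * dt 5 6 6 7 * dt 2 3 3 5 * dt 5 7 7 4)⁻¹ * j d, ?_, ?_⟩ <;>
          simp only [h4 _ _ _ e, h4 _ _ _ e', jc, jcb, map_mul] <;> decide +kernel
    have h5 : ∀ {p q : M} {w : A8}, g * φ (j p) * g⁻¹ = φ (j q) → k * j q * k⁻¹ = w →
        (dt 2 3 3 5 * dt 5 7 7 4 : A8) * w * (dt 2 3 3 5 * dt 5 7 7 4)⁻¹ = j p →
        Commute (φ k * g * φ (dt 2 3 3 5 * dt 5 7 7 4)) (φ w) := fun {p q w} e e' e'' => by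
      refine mul_inv_eq_iff_eq_mul.1 ?_
      calc _ = φ k * (g * φ ((dt 2 3 3 5 * dt 5 7 7 4) * w * (dt 2 3 3 5 * dt 5 7 7 4)⁻¹) * g⁻¹) *
            (φ k)⁻¹ := by rw [map_mul φ _ _⁻¹, map_mul φ _ w, map_inv]; group
        _ = _ := by rw [e'', e, ← map_inv, ← map_mul, ← map_mul, e']
    have := hV _ (h5 e1 k1 (by rw [jc]; decide +kernel)) (h5 e2 k2 (by rw [jcb]; decide +kernel))
    exact (φ.range.mul_mem_cancel_left ⟨_, rfl⟩).1 ((φ.range.mul_mem_cancel_right ⟨_, rfl⟩).1 this)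
  have := card_dvd_of_le hle
  rw [hK, ← Nat.card_congr (MonoidHom.ofInjective hφ).toEquiv, card_A8] at this
  omega

/-- Recognition of the alternating group of degree 8 from a subgroup isomorphic to it. -/
theorem endA8 (φ : A8 →* G) (hφ : Function.Injective φ)
    (hne : ¬ IsConj (φ s8) (φ (dt 3 4 5 6)))
    (hV : ∀ g, Commute g (φ (dt 3 4 5 6)) → Commute g (φ (dt 3 5 4 6)) → g ∈ φ.range)
    (hy : ∀ g, Commute g (φ y8) → Commute g (φ s8) → g ∈ φ.range) (h27 : ¬ 27 ∣ Nat.card G) :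
    Nonempty (G ≃* A8) := by
  have h64 := not_dvd φ hφ hne hV
  have h := endCore φ hφ (fun h => h64 (h.trans (card_subgroup_dvd_card _)))
    (fun g h1 h2 => by
      obtain ⟨σ, rfl⟩ := hy g h1 h2
      exact MonoidHom.map_zpowers φ _ ▸ mem_map_of_mem φ
        (cent2 σ (h1.of_map hφ) (h2.of_map hφ)))
    (fun g h1 h2 h3 h4 => by
      have h5 : ∀ k w w' : A8, k * w * k⁻¹ = w' → Commute g (φ w') →
          Commute ((φ k)⁻¹ * g * φ k) (φ w) := fun k w w' e h => by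
        refine mul_inv_eq_iff_eq_mul.1 ?_
        calc _ = (φ k)⁻¹ * (g * φ (k * w * k⁻¹) * g⁻¹) * φ k := by
              rw [map_mul, map_mul, map_inv]; group
          _ = _ := by rw [e, h.eq, ← e, map_mul, map_mul, map_inv]; group
      have := (φ.range.mul_mem_cancel_left (inv_mem ⟨_, rfl⟩)).1
        ((φ.range.mul_mem_cancel_right ⟨_, rfl⟩).1 (hV _
          (h5 (dt 0 6 6 3 * dt 3 1 1 5) _ _ (by decide +kernel) h2)
          (h5 (dt 0 6 6 3 * dt 3 1 1 5) _ _ (by decide +kernel) h3)))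
      obtain ⟨σ, rfl⟩ := this
      have h6 : σ ^ 4 = 1 := Subtype.ext (cent1 σ ((h2.of_map hφ).map (Subgroup.subtype _))
        ((h3.of_map hφ).map (Subgroup.subtype _)) ((h1.of_map hφ).map (Subgroup.subtype _)))
      exact orderOf_eq_one_iff.1 (Nat.eq_one_of_dvd_coprimes
        (show (orderOf (φ σ)).Coprime 4 from (h4.pow_right 2).coprime_dvd_right (by norm_num))
        dvd_rfl (orderOf_dvd_of_pow_eq_one (by rw [← map_pow, h6, map_one]))))
  refine h.resolve_right fun ⟨e⟩ => h27 ?_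
  rw [Nat.card_congr e.toEquiv, nat_card_alternatingGroup]
  simp [Nat.factorial]

end Cfsg.Agent.H63.L3A
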