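import Mathlib
import Cfsg.Agent.H8.SylowIn
import Cfsg.Agent.S0058
import Cfsg.Agent.H63.L3A8End

/-!
# The 3-local recognition of the alternating group of degree 8
-/

set_option autoImplicit false
set_option maxRecDepth 100000

namespace Cfsg.Agent.H63.L3A

open Equiv Equiv.Perm Subgroup

variable {G : Type*} [Group G]

theorem zpow3 {z : G} (h : z ^ 3 = 1) (i : ℤ) : z ^ i = 1 ∨ z ^ i = z ∨ z ^ i = z⁻¹ := by
  rw [zpow_eq_zpow_emod (n := 3) i (by exact_mod_cast h)]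
  rcases (by omega : i % 3 = 0 ∨ i % 3 = 1 ∨ i % 3 = 2) with e | e | e <;> rw [e]
  exacts [.inl (zpow_zero z), .inr (.inl (zpow_one z)), .inr (.inr (eq_inv_of_mul_eq_one_left
    (by rw [← zpow_add_one]; exact_mod_cast h)))]

theorem cmc {a b : G} (h : Commute a b) (g : G) : Commute (g * a * g⁻¹) (g * b * g⁻¹) :=
  h.map (MulAut.conj g)

theorem cmc' {a b g : G} (h : Commute (g * a * g⁻¹) (g * b * g⁻¹)) : Commute a b :=
  Commute.of_map (f := MulAut.conj g) (MulAut.conj g).injective h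

theorem eq_one_of_cop {g : G} (h : (orderOf g).Coprime 3) (h3 : g ^ 3 = 1) : g = 1 :=
  orderOf_eq_one_iff.1 (Nat.eq_one_of_dvd_coprimes h dvd_rfl (orderOf_dvd_of_pow_eq_one h3))

theorem syl3 [Finite G] {X : Subgroup G} {z : G} (hz : orderOf z = 3) (hX : z ∈ X)
    (h : ∀ g ∈ X, Commute g z → g ^ 9 = 1 → g ∈ zpowers z) : H8.IsSylowIn 3 (zpowers z) X := by
  have : Fact (Nat.Prime 3) := ⟨by norm_num⟩
  have c3 : Nat.card (zpowers z) = 3 := by rw [Nat.card_zpowers, hz]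
  refine ⟨zpowers_le.2 hX, .of_card (n := 1) c3, fun ⟨m, hm⟩ => ?_⟩
  have c3' : Nat.card ((zpowers z).subgroupOf X) = 3 ^ 1 :=
    (Nat.card_congr (subgroupOfEquivOfLe (zpowers_le.2 hX)).toEquiv).trans c3
  obtain ⟨K, hK, hle⟩ := Sylow.exists_subgroup_card_pow_succ (p := 3) (n := 1)
    ⟨m, by rw [H8.card_eq_card_mul_relIndex (zpowers_le.2 hX), c3, hm]; ring⟩ c3'
  have hc := IsPGroup.isMulCommutative_of_card_eq_prime_sq hK
  have := card_le_of_le (show K ≤ (zpowers z).subgroupOf X from fun g hg => h g g.2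
    (congrArg (fun a : K => (a.1 : G)) (hc.is_comm.comm ⟨g, hg⟩ ⟨⟨z, hX⟩, hle (mem_zpowers z)⟩))
    (congrArg (fun a : K => (a.1 : G)) (show (⟨g, hg⟩ : K) ^ 9 = 1 from
      (show 3 ^ (1 + 1) = 9 from rfl) ▸ hK ▸ pow_card_eq_one')))
  omega

theorem burn [Finite G] {X : Subgroup G} {z : G} (hz : orderOf z = 3)
    (hS : H8.IsSylowIn 3 (zpowers z) X) (hN : ∀ g ∈ X, g * z * g⁻¹ ≠ z⁻¹) :
    ∃ W : Subgroup G, (Nat.card W).Coprime 3 ∧ (∀ g, g ∈ W ↔ g ∈ X ∧ (orderOf g).Coprime 3) ∧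
      ∀ g ∈ X, ∃ w ∈ W, ∃ i : ℤ, g = w * z ^ i := by
  have : Fact (Nat.Prime 3) := ⟨by norm_num⟩
  have z3 : z ^ 3 = 1 := hz ▸ pow_orderOf_eq_one z
  have hzX : z ∈ X := hS.le (mem_zpowers z)
  have hP : normalizer (hS.toSylow : Set X) ≤ centralizer (hS.toSylow : Set X) := by
    rintro g hg ⟨_, hk⟩ ⟨i, rfl⟩
    obtain ⟨j, hj⟩ := (mem_normalizer_iff.1 hg ⟨z, hzX⟩).1 (mem_zpowers z)
    have hc : Commute z g := by
      rcases zpow3 z3 j with e | e | e
      · rw [show z = 1 from conj_eq_one_iff.1 (hj.symm.trans e), orderOf_one] at hz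
        exact absurd hz (by norm_num)
      · exact (mul_inv_eq_iff_eq_mul.1 (hj.symm.trans e)).symm
      · exact absurd (hj.symm.trans e) (hN g g.2)
    exact Subtype.ext (hc.zpow_left i)
  have hc := MonoidHom.ker_transferSylow_isComplement' hS.toSylow hP
  have hcop : (Nat.card (MonoidHom.transferSylow hS.toSylow hP).ker).Coprime 3 :=
    ((Nat.Prime.coprime_iff_not_dvd (by norm_num)).2
      (hc.index_eq_card ▸ hS.toSylow.not_dvd_index)).symm
  refine ⟨(MonoidHom.transferSylow hS.toSylow hP).ker.map X.subtype,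
    by rwa [card_map_of_injective X.subtype_injective], fun g => ⟨?_, fun ⟨h1, h2⟩ => ?_⟩,
    fun g hg => ?_⟩
  · rintro ⟨k, hk, rfl⟩
    refine ⟨k.2, hcop.coprime_dvd_left ?_⟩
    have := orderOf_dvd_natCard (⟨k, hk⟩ : (MonoidHom.transferSylow hS.toSylow hP).ker)
    rwa [Subgroup.orderOf_mk, ← Subgroup.orderOf_coe] at this
  · refine ⟨⟨g, h1⟩, MonoidHom.mem_ker.2 (orderOf_eq_one_iff.1 ?_), rfl⟩
    obtain ⟨n, hn⟩ := IsPGroup.iff_orderOf.1 hS.toSylow.2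
      (MonoidHom.transferSylow hS.toSylow hP ⟨g, h1⟩)
    have := orderOf_map_dvd (MonoidHom.transferSylow hS.toSylow hP) ⟨g, h1⟩
    rw [← Subgroup.orderOf_coe (⟨g, h1⟩ : X)] at this
    exact Nat.eq_one_of_dvd_coprimes (h2.pow_right n) this (hn ▸ dvd_rfl)
  · obtain ⟨⟨w, p⟩, e⟩ := (hc.existsUnique ⟨g, hg⟩).exists
    obtain ⟨i, hi⟩ := p.2
    exact ⟨_, ⟨w, w.2, rfl⟩, i, by rw [show z ^ i = _ from hi]; exact congrArg Subtype.val e.symm⟩

/-- Two involutions acting in the same way on a four-group. -/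
theorem dih [Finite G] {s v r c : G} (ss : s * s = 1) (vv : v * v = 1) (rr : r * r = 1)
    (cc : c * c = 1) (c1 : c ≠ 1) (cs : Commute c s) (cv : Commute c v) (cr : Commute c r)
    (sr : s * r * s⁻¹ = r * c) (rv : r * v * r⁻¹ = v * c) (n1 : ¬ IsConj s v)
    (n2 : ¬ IsConj s (c * v)) (hX : ∀ g, Commute g c → Commute g v → (g ^ 2) ^ 3 = 1 ∧
      (g ^ 2 = 1 → g = 1 ∨ g = c ∨ g = v ∨ g = v * c)) : False := by
  have si := inv_eq_of_mul_eq_one_right ss
  have vi := inv_eq_of_mul_eq_one_right vv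
  have ri := inv_eq_of_mul_eq_one_right rr
  have vr : v * r * v⁻¹ = r * c := by
    calc v * r * v⁻¹ = r * (r * v * r⁻¹) * v⁻¹ := by rw [ri, ← mul_assoc r, ← mul_assoc r, rr, one_mul]
      _ = _ := by rw [rv, ← cv.eq]; group
  have fr : Commute (s * v) r := mul_inv_eq_iff_eq_mul.1 (by
    calc s * v * r * (s * v)⁻¹ = s * (v * r * v⁻¹) * s⁻¹ := by group
      _ = s * r * s⁻¹ * (s * c * s⁻¹) := by rw [vr]; group
      _ = r := by rw [sr, ← cs.eq, mul_inv_cancel_right, mul_assoc, cc, mul_one])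
  have fc : Commute (s * v) c := (cs.mul_right cv).symm
  have vf : ∀ n : ℕ, v * (s * v) ^ n * v⁻¹ = ((s * v) ^ n)⁻¹ := fun n => by
    rw [← conj_pow, ← inv_pow, mul_inv_rev, si, vi, ← mul_assoc, mul_assoc _ v v, vv, mul_one]
  have vf' : ∀ n : ℕ, (s * v) ^ n * v * ((s * v) ^ n)⁻¹ = (s * v) ^ (2 * n) * v := fun n => by
    rw [← vf, two_mul, pow_add, vi]
    simp only [← mul_assoc]
    rw [mul_assoc _ v v, vv, mul_one]
  have od : ∀ n : ℕ, IsConj s ((s * v) ^ (2 * n + 1) * v) := fun n => isConj_iff.2 ⟨(s * v) ^ n, by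
    have e : (s * v) ^ n * (s * v) = (s * v) * (s * v) ^ n := (pow_succ _ _).symm.trans (pow_succ' _ _)
    calc (s * v) ^ n * s * ((s * v) ^ n)⁻¹ = (s * v) ^ n * (s * v) * v * ((s * v) ^ n)⁻¹ := by
          rw [mul_assoc _ (s * v), mul_assoc s, vv, mul_one]
      _ = s * v * ((s * v) ^ n * v * ((s * v) ^ n)⁻¹) := by rw [e]; group
      _ = _ := by rw [vf', pow_succ' _ (2 * n), mul_assoc (s * v)]⟩
  have hp := orderOf_pos (s * v)
  obtain ⟨k, hk | hk⟩ := Nat.even_or_odd' (orderOf (s * v))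
  · have w2 : ((s * v) ^ k) ^ 2 = 1 := by rw [← pow_mul, mul_comm, ← hk, pow_orderOf_eq_one]
    have wv : Commute ((s * v) ^ k) v := by
      refine (mul_inv_eq_iff_eq_mul.1 ((vf k).trans ?_)).symm
      exact inv_eq_of_mul_eq_one_right (by rw [← sq, w2])
    have wr := (fr.pow_left k).symm.eq
    have hw : (s * v) ^ k = c := by
      rcases (hX _ (fc.pow_left k) wv).2 w2 with e | e | e | e
      · exact absurd e (pow_ne_one_of_lt_orderOf (by omega) (by omega))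
      · exact e
      · rw [e] at wr
        rw [wr, mul_inv_cancel_right] at rv
        exact absurd (left_eq_mul.1 rv) c1
      · rw [e, ← mul_assoc, mul_assoc v, cr.eq, ← mul_assoc, mul_left_inj] at wr
        rw [wr, mul_inv_cancel_right] at rv
        exact absurd (left_eq_mul.1 rv) c1
    obtain ⟨m, rfl | rfl⟩ := Nat.even_or_odd' k
    · have h1 : Commute ((s * v) ^ m * r) v := mul_inv_eq_iff_eq_mul.1 (by
        calc _ = (s * v) ^ m * (r * v * r⁻¹) * ((s * v) ^ m)⁻¹ := by group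
          _ = (s * v) ^ m * v * ((s * v) ^ m)⁻¹ * c := by
            rw [rv, mul_assoc _ _ c, (fc.pow_left m).inv_left.eq]; group
          _ = v := by rw [vf', hw, cv.eq, mul_assoc, cc, mul_one])
      have h2 := (hX _ ((fc.pow_left m).mul_left cr.symm) h1).1
      rw [(fr.pow_left m).mul_pow, ← pow_mul, mul_comm m, hw, sq r, rr, mul_one, pow_three', cc,
        one_mul] at h2
      exact c1 h2
    · exact n2 (hw ▸ od m)
  · have := od k
    rw [← hk, pow_orderOf_eq_one, one_mul] at this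
    exact n1 this

/-- Conjugation by the transposition `(a b)`. -/
def cjs (a b : Fin 5) : MulAut A5 := MulAut.conjNormal (H := alternatingGroup (Fin 5)) (swap a b)

local notation "t5" => (dt 0 1 1 2 : A5)
local notation "r5" => (dt 0 1 3 4 : A5)
local notation "v5" => (dt 0 1 2 3 : A5)
local notation "u5" => (dt 0 2 1 3 : A5)
local notation "w5" => (dt 0 1 2 4 : A5)
local notation "q5" => (dt 2 3 3 4 : A5)

/-- The local data: `C(z) = ⟨z⟩ × κ(A₅)`, `c` inverts `z`, `s` swaps `z` and `κ (0 1 2)`. -/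
structure Dat (κ : A5 →* G) (z c s : G) : Prop where
  inj : Function.Injective κ
  oz : orderOf z = 3
  zc : ∀ k, Commute z (κ k)
  cent : ∀ g, Commute g z → ∃ (i : ℤ) (k : A5), g = z ^ i * κ k
  cc : c * c = 1
  cz : c * z * c⁻¹ = z⁻¹
  ck : ∀ k, c * κ k * c⁻¹ = κ (cjs 0 1 k)
  ss : s * s = 1
  sz : s * z * s⁻¹ = κ t5
  sr : s * κ r5 * s⁻¹ = κ r5 * c
  cy : ∀ g, Commute g (z * κ t5) → ∃ i j : ℤ, g = z ^ i * κ t5 ^ j ∨ g = z ^ i * κ t5 ^ j * s

namespace Dat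

variable {κ : A5 →* G} {z c s : G} (h : Dat κ z c s)
include h

theorem z3 : z ^ 3 = 1 := h.oz ▸ pow_orderOf_eq_one z

theorem z1 : z ≠ 1 := fun e => absurd h.oz (by rw [e, orderOf_one]; norm_num)

theorem zi : z ≠ z⁻¹ := fun e => h.z1 (by
  have := h.z3
  rwa [pow_three', mul_eq_one_iff_eq_inv.2 e, one_mul] at this)

theorem ss' (g : G) : s * (s * g * s⁻¹) * s⁻¹ = g := by
  rw [inv_eq_of_mul_eq_one_right h.ss]
  simp only [← mul_assoc]
  rw [h.ss, one_mul, mul_assoc, h.ss, mul_one]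

theorem sz' : s * κ t5 * s⁻¹ = z := by rw [← h.sz, h.ss']

theorem split {i : ℤ} {k : A5} (e : z ^ i * κ k = 1) : z ^ i = 1 ∧ k = 1 := by
  have e' := eq_inv_of_mul_eq_one_right e
  have : k = 1 := (by decide +kernel : ∀ k : A5, k * t5 = t5 * k → k * r5 = r5 * k → k = 1) k
    (Commute.of_map h.inj (by rw [e']; exact ((h.zc _).zpow_left i).inv_left))
    (Commute.of_map h.inj (by rw [e']; exact ((h.zc _).zpow_left i).inv_left))
  exact ⟨by simpa [this] using e, this⟩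

theorem pow_split {i : ℤ} {k : A5} {n : ℕ} (e : (z ^ i * κ k) ^ n = 1) :
    (z ^ i) ^ n = 1 ∧ k ^ n = 1 := by
  rw [((h.zc k).zpow_left i).mul_pow, ← map_pow, ← zpow_natCast, ← zpow_mul] at e
  have := h.split e
  rwa [zpow_mul, zpow_natCast] at this

theorem zi3 (i : ℤ) : (z ^ i) ^ 3 = 1 := by
  rw [← zpow_natCast, zpow_comm, zpow_natCast, h.z3, one_zpow]

theorem d3 (i j : ℤ) : (z ^ i * κ t5 ^ j) ^ 3 = 1 := by
  rw [((h.zc _).zpow_zpow i j).mul_pow, h.zi3, one_mul, ← zpow_natCast, zpow_comm, zpow_natCast,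
    ← map_pow, show t5 ^ 3 = 1 by decide +kernel, map_one, one_zpow]

theorem cop {g : G} (hg : (orderOf g).Coprime 3) (hc : Commute g z) : ∃ k, g = κ k := by
  obtain ⟨i, k, rfl⟩ := h.cent g hc
  have h1 := (h.pow_split (pow_orderOf_eq_one (z ^ i * κ k))).1
  rw [eq_one_of_cop (hg.coprime_dvd_left (orderOf_dvd_of_pow_eq_one h1)) (h.zi3 i), one_mul]
  exact ⟨k, rfl⟩

theorem ofc {g : G} {k l : A5} {i : ℤ} (e : g = z ^ i * κ k) (hc : Commute g (κ l)) :
    Commute k l := by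
  rw [e] at hc
  exact Commute.of_map h.inj
    (by simpa using (((h.zc l).zpow_left i).inv_left.mul_left hc))

theorem inv_act {g : G} (hg : g * z * g⁻¹ = z⁻¹) :
    ∃ k, ∀ l, g * κ l * g⁻¹ = κ (k * cjs 0 1 l * k⁻¹) := by
  have ci := inv_eq_of_mul_eq_one_right h.cc
  obtain ⟨i, k, e⟩ := h.cent (g * c) (mul_inv_eq_iff_eq_mul.1 (by
    calc g * c * z * (g * c)⁻¹ = g * (c * z * c⁻¹) * g⁻¹ := by group
      _ = z := by rw [h.cz, ← conj_inv, hg, inv_inv]))
  refine ⟨k, fun l => ?_⟩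
  calc g * κ l * g⁻¹ = g * c * (c * κ l * c⁻¹) * (g * c)⁻¹ := by
        rw [mul_inv_rev, ci]
        simp only [← mul_assoc]
        rw [mul_assoc g c c, mul_assoc _ c c, h.cc, mul_one, mul_one]
    _ = z ^ i * κ (k * cjs 0 1 l * k⁻¹) * (z ^ i)⁻¹ := by
        rw [e, h.ck, map_mul, map_mul, map_inv]; group
    _ = _ := by rw [((h.zc _).zpow_left i).eq, mul_inv_cancel_right]

theorem cs : Commute c s := by
  have e := h.ss' (κ r5)
  rw [h.sr, ← conj_mul, h.sr, mul_assoc, mul_eq_left, mul_eq_one_iff_inv_eq,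
    inv_eq_of_mul_eq_one_right h.cc] at e
  exact (mul_inv_eq_iff_eq_mul.1 e.symm).symm

theorem ck' {k : A5} (e : cjs 0 1 k = k) : Commute c (κ k) :=
  mul_inv_eq_iff_eq_mul.1 (by rw [h.ck, e])

variable [Finite G]

theorem sylV {X : Subgroup G} (hz : z ∈ X) (hX : ∀ g ∈ X, Commute g (κ v5)) :
    H8.IsSylowIn 3 (zpowers z) X := syl3 h.oz hz fun g hg h1 h2 => by
  obtain ⟨i, k, e⟩ := h.cent g h1
  have := (by decide +kernel : ∀ k : A5, k * v5 = v5 * k → k ^ 9 = 1 → k = 1) k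
    (h.ofc e (hX g hg)) (h.pow_split (e ▸ h2)).2
  exact ⟨i, by rw [e, this, map_one, mul_one]⟩

/-- The two classes of involutions. -/
theorem nc {σ : G} (hσ : Commute σ (z * κ t5)) : ¬ IsConj σ (κ v5) := fun hc => by
  have : Fact (Nat.Prime 3) := ⟨by norm_num⟩
  obtain ⟨g, hg⟩ := isConj_iff.1 hc
  have y3 : (z * κ t5) ^ 3 = 1 := by simpa using h.d3 1 1
  have y1 : z * κ t5 ≠ 1 := fun e => h.z1 (by simpa using (h.split (i := 1) (by simpa using e)).1)
  obtain ⟨a, -, ha⟩ := (h.sylV (X := centralizer {κ v5})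
    (mem_centralizer_singleton_iff.2 (h.zc _)) fun g hg =>
      mem_centralizer_singleton_iff.1 hg).exists_conj_le
    (Q := zpowers (g * (z * κ t5) * g⁻¹)) (.of_card (n := 1) (by
      rw [Nat.card_zpowers, orderOf_eq_prime (by rw [conj_pow, y3]; simp) (by simpa using y1)]
      rfl))
    (zpowers_le.2 (mem_centralizer_singleton_iff.2 (hg ▸ cmc hσ.symm g)))
  obtain ⟨i, hi⟩ := ha (H8.conj_mem_conj_smul.2 (mem_zpowers _))
  have f1 : Commute ((a * g)⁻¹ * κ (dt 0 1 1 2 * dt 2 3 3 4) * (a * g)⁻¹⁻¹) (z * κ t5) := by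
    have := cmc ((h.zc (dt 0 1 1 2 * dt 2 3 3 4)).zpow_left i).symm (a * g)⁻¹
    rwa [show z ^ i = _ from hi, show (a * g)⁻¹ * (a * (g * (z * κ t5) * g⁻¹) * a⁻¹) *
      (a * g)⁻¹⁻¹ = z * κ t5 by group] at this
  have f6 : ((a * g)⁻¹ * κ (dt 0 1 1 2 * dt 2 3 3 4) * (a * g)⁻¹⁻¹) ^ 6 = 1 := by
    obtain ⟨i, j, e | e⟩ := h.cy _ f1 <;> rw [e]
    · rw [show 6 = 3 * 2 from rfl, pow_mul, h.d3, one_pow]
    · have : (z ^ i * κ t5 ^ j * s) ^ 2 = z ^ (i + j) * κ t5 ^ (j + i) := by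
        calc _ = z ^ i * κ t5 ^ j * ((s * z * s⁻¹) ^ i * (s * κ t5 * s⁻¹) ^ j) * (s * s) := by
              rw [conj_zpow, conj_zpow, sq]; group
          _ = _ := by
            rw [h.ss, h.sz, h.sz', mul_one, zpow_add, zpow_add, ← mul_assoc, mul_assoc (z ^ i),
              mul_assoc (z ^ i), ← zpow_add, ← ((h.zc _).zpow_zpow j (j + i)).eq, zpow_add,
              mul_assoc]
      rw [show 6 = 2 * 3 from rfl, pow_mul, this, h.d3]
  rw [conj_pow, conj_eq_one_iff, ← map_pow, map_eq_one_iff _ h.inj] at f6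
  exact absurd f6 (by decide +kernel)

/-- The centraliser of the four-group is not minimal. -/
theorem step2 (hX : ∀ g, Commute g (κ v5) → Commute g (κ u5) → Commute g z) : False := by
  obtain ⟨k0, hk0⟩ := (by decide +kernel : ∃ k : A5, k * t5 * k⁻¹ = q5)
  have c1 : c ≠ 1 := fun e => h.zi (by simpa [e] using h.cz)
  have gz : κ k0 * s * z * (κ k0 * s)⁻¹ = κ q5 := by
    rw [← hk0, map_mul, map_mul, map_inv, ← h.sz]; group
  have cc : ∀ g : G, (g⁻¹ * c * g) ^ 2 = 1 := fun g => by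
    calc _ = g⁻¹ * (c * c) * g := by rw [sq]; group
      _ = 1 := by rw [h.cc]; group
  obtain ⟨a, ha⟩ := h.cop (g := (κ k0 * s)⁻¹ * c * (κ k0 * s))
    ((by norm_num : Nat.Coprime 2 3).coprime_dvd_left (orderOf_dvd_of_pow_eq_one (cc _)))
    (cmc' (g := κ k0 * s) (by
      rw [gz, show κ k0 * s * ((κ k0 * s)⁻¹ * c * (κ k0 * s)) * (κ k0 * s)⁻¹ = c by group]
      exact h.ck' (by decide +kernel)))
  obtain ⟨k1, hk1⟩ := (by decide +kernel : ∀ a : A5, a ^ 2 = 1 → a ≠ 1 →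
    ∃ k, k * v5 * k⁻¹ = a) a (h.inj (by rw [map_pow, ← ha, cc, map_one])) fun e => c1 (by
      rw [e, map_one, ← inv_inv (κ k0 * s), inv_inv (κ k0 * s)⁻¹] at ha
      exact conj_eq_one_iff.1 ha)
  obtain ⟨g, g1, g2⟩ : ∃ g, g * z * g⁻¹ = κ q5 ∧ g * κ v5 * g⁻¹ = c := ⟨κ k0 * s * κ k1, by
    rw [← gz, mul_assoc _ (κ k1), ← (h.zc k1).eq]; group, by
    calc _ = κ k0 * s * κ (k1 * v5 * k1⁻¹) * (κ k0 * s)⁻¹ := by
          rw [map_mul, map_mul, map_inv]; group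
      _ = c := by rw [hk1, ← ha]; group⟩
  have cr : Commute c (κ r5) := h.ck' (by decide +kernel)
  obtain ⟨k, hk⟩ := h.inv_act (g := g⁻¹ * κ r5 * g) (by
    calc _ = g⁻¹ * (κ r5 * (g * z * g⁻¹) * (κ r5)⁻¹) * g := by group
      _ = g⁻¹ * (g * z * g⁻¹)⁻¹ * g := by
        rw [g1, ← map_inv, ← map_mul, ← map_mul, ← map_inv]; congr 3; decide +kernel
      _ = _ := by group)
  have k2 := (by decide +kernel : ∀ k : A5, k * cjs 0 1 v5 * k⁻¹ = v5 →
    k * cjs 0 1 u5 * k⁻¹ = u5 * v5) k (h.inj (by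
      rw [← hk]
      calc _ = g⁻¹ * (κ r5 * (g * κ v5 * g⁻¹) * (κ r5)⁻¹) * g := by group
        _ = _ := by rw [g2, ← cr.eq, ← g2]; group))
  have n1 := h.nc (σ := s) (mul_inv_eq_iff_eq_mul.1 (by
    rw [← conj_mul, h.sz, h.sz', (h.zc _).eq]))
  have cj : ∀ k l : A5, k * l * k⁻¹ = v5 → ¬ IsConj s (g * κ l * g⁻¹) := fun k l e hc =>
    n1 ((hc.trans (isConj_iff.2 ⟨g, rfl⟩).symm).trans (κ.map_isConj (isConj_iff.2 ⟨k, e⟩)))
  refine dih (v := g * κ u5 * g⁻¹) h.ss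
    (by rw [conj_mul, ← map_mul, show u5 * u5 = 1 by decide +kernel]; simp)
    (by rw [← map_mul, show r5 * r5 = 1 by decide +kernel, map_one]) h.cc c1 h.cs
    (g2 ▸ cmc (Commute.map (show v5 * u5 = u5 * v5 by decide +kernel) κ) g) cr h.sr ?_
    (cj t5 _ (by decide +kernel))
    (by rw [← g2, conj_mul, ← map_mul]; exact cj t5⁻¹ _ (by decide +kernel)) fun a h1 h2 => ?_
  · calc _ = g * (g⁻¹ * κ r5 * g * κ u5 * (g⁻¹ * κ r5 * g)⁻¹) * g⁻¹ := by group
      _ = _ := by rw [hk, k2, ← g2, conj_mul, map_mul]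
  · obtain ⟨b, rfl⟩ : ∃ b, a = g * b * g⁻¹ := ⟨g⁻¹ * a * g, by group⟩
    have b1 := cmc' (g2 ▸ h1)
    have b2 := cmc' h2
    obtain ⟨i, l, e⟩ := h.cent b (hX b b1 b2)
    have hl := (by decide +kernel : ∀ l : A5, l * v5 = v5 * l → l ^ 2 = 1 ∧
      (l = 1 ∨ l = v5 ∨ l = u5 ∨ l = u5 * v5)) l (h.ofc e b1)
    simp only [conj_pow, conj_eq_one_iff]
    refine ⟨?_, fun h3 => ?_⟩
    · rw [e, ((h.zc l).zpow_left i).mul_pow, ← map_pow, hl.1, map_one, mul_one, ← pow_mul,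
        mul_comm, pow_mul, h.zi3, one_pow]
    · have h4 := (h.pow_split (e ▸ h3)).1
      have h5 := h.zi3 i
      rw [pow_succ, h4, one_mul] at h5
      rw [h5, one_mul] at e
      rw [e, ← g2, conj_mul, ← map_mul]
      rcases hl.2 with e | e | e | e <;> simp [e]

/-- The group generated by `z` and `κ (0 1 2)`. -/
def D : Subgroup G where
  carrier := {g | ∃ i j : ℤ, g = z ^ i * κ t5 ^ j}
  one_mem' := ⟨0, 0, by simp⟩
  mul_mem' := by
    rintro _ _ ⟨i, j, rfl⟩ ⟨k, l, rfl⟩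
    exact ⟨i + k, j + l, by rw [zpow_add, zpow_add, ((h.zc _).zpow_zpow k j).mul_mul_mul_comm]⟩
  inv_mem' := by
    rintro _ ⟨i, j, rfl⟩
    exact ⟨-i, -j, by rw [zpow_neg, zpow_neg, ((h.zc _).zpow_zpow i j).mul_inv]⟩

set_option synthInstance.maxSize 2000 in
theorem step1 : ∃ W : Subgroup G,
    (∀ g, Commute g (κ v5) → Commute g (κ u5) → ∃ w ∈ W, ∃ i : ℤ, g = w * z ^ i) ∧
    (∀ w ∈ W, Commute w (κ v5)) ∧
    (∀ K : Subgroup G, (∀ k, κ k ∈ K) → (∀ k, s * κ k * s⁻¹ ∈ W → s * κ k * s⁻¹ ∈ K) → W ≤ K) ∧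
    ∀ k, s * κ k * s⁻¹ ∈ W → k = 1 ∨ s * κ v5 * s⁻¹ ∈ W ∨ s * κ w5 * s⁻¹ ∈ W := by
  have : Fact (Nat.Prime 3) := ⟨by norm_num⟩
  have hm : ∀ g, g ∈ centralizer {κ v5, κ u5} ↔ Commute g (κ v5) ∧ Commute g (κ u5) := fun g => by
    simp only [mem_centralizer_iff, Set.mem_insert_iff, Set.mem_singleton_iff, forall_eq_or_imp,
      forall_eq, commute_iff_eq, eq_comm]
  have t3 : κ t5 ^ 3 = 1 := by simpa using h.d3 0 1
  have zt : ∀ i : ℤ, ∀ k : A5, k ≠ 1 → z ^ i * κ k ≠ 1 := fun i k hk e => hk (h.split e).2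
  obtain ⟨W, hcop, hW, hdec⟩ := burn h.oz (h.sylV ((hm z).2 ⟨h.zc _, h.zc _⟩)
    fun g hg => ((hm g).1 hg).1) fun g hg e => by
      obtain ⟨k, hk⟩ := h.inv_act e
      exact (by decide +kernel : ∀ k : A5, k * cjs 0 1 v5 * k⁻¹ = v5 →
        k * cjs 0 1 u5 * k⁻¹ ≠ u5) k
        (h.inj (by rw [← hk, ((hm g).1 hg).1.eq, mul_inv_cancel_right]))
        (h.inj (by rw [← hk, ((hm g).1 hg).2.eq, mul_inv_cancel_right]))
  have oc : ∀ g w : G, orderOf (g * w * g⁻¹) = orderOf w := fun g w =>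
    (MulAut.conj g).orderOf_eq w
  have nz : ∀ w ∈ W, z * w * z⁻¹ ∈ W := fun w hw => (hW _).2
    ⟨mul_mem (mul_mem ((hm z).2 ⟨h.zc _, h.zc _⟩) ((hW w).1 hw).1)
      (inv_mem ((hm z).2 ⟨h.zc _, h.zc _⟩)), oc z w ▸ ((hW w).1 hw).2⟩
  have nt : ∀ w ∈ W, κ t5 * w * (κ t5)⁻¹ ∈ W := fun w hw => by
    obtain ⟨a1, a2⟩ := (hm w).1 ((hW w).1 hw).1
    have a3 := cmc (a1.mul_right a2) (κ t5)
    have a4 := cmc a1 (κ t5)
    have a5 := cmc a2 (κ t5)
    simp only [← map_mul, ← map_inv] at a3 a4 a5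
    rw [show t5 * u5 * t5⁻¹ = v5 by decide +kernel, map_inv] at a5
    rw [show t5 * (v5 * u5) * t5⁻¹ = u5 by decide +kernel, map_inv] at a3
    exact (hW _).2 ⟨(hm _).2 ⟨a5, a3⟩, oc _ w ▸ ((hW w).1 hw).2⟩
  have one : ∀ w ∈ W, w ^ 3 = 1 → w = 1 := fun w hw => eq_one_of_cop ((hW w).1 hw).2
  have key : ∀ ρ, Commute ρ z → ∀ g ∈ W, Commute (ρ * g * ρ⁻¹) (z * κ t5) → g = 1 :=
    fun ρ hρ g hg hc => by
    obtain ⟨i, j, e | e⟩ := h.cy _ hc
    · exact one g hg (conj_eq_one_iff.1 (by rw [← conj_pow, e, h.d3]))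
    · have e2 : ρ * (z * g * z⁻¹ * g⁻¹) * ρ⁻¹ = z ^ (1 : ℤ) * κ t5 ^ (-1 : ℤ) := by
        calc _ = ρ * z * ρ⁻¹ * (ρ * g * ρ⁻¹) * (ρ * z * ρ⁻¹)⁻¹ * (ρ * g * ρ⁻¹)⁻¹ := by group
          _ = z * ((z ^ i * κ t5 ^ j) * (s * z * s⁻¹)⁻¹ * (z ^ i * κ t5 ^ j)⁻¹) := by
            rw [hρ.eq, mul_inv_cancel_right, e]; group
          _ = _ := by
            rw [h.sz, (((h.zc _).zpow_left i).mul_left
              (Commute.zpow_self _ j)).inv_right.eq, mul_inv_cancel_right, zpow_one, zpow_neg_one]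
      have e3 := one _ (mul_mem (nz g hg) (inv_mem hg))
        (conj_eq_one_iff.1 (by rw [← conj_pow, e2, h.d3]))
      rw [e3, mul_one, mul_inv_cancel, zpow_neg_one, ← map_inv] at e2
      exact absurd e2.symm (zt _ _ (by decide +kernel))
  refine ⟨W, fun g h1 h2 => hdec g ((hm g).2 ⟨h1, h2⟩), fun w hw => ((hm w).1 ((hW w).1 hw).1).1,
    fun K k1 k2 => ?_, fun k hk => ?_⟩
  · have : IsMulCommutative h.D := ⟨⟨by
      rintro ⟨_, i, j, rfl⟩ ⟨_, k, l, rfl⟩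
      exact Subtype.ext (((Commute.zpow_zpow_self z i k).mul_right
        ((h.zc _).zpow_zpow i l)).mul_left
        (((h.zc _).zpow_zpow k j).symm.mul_right (Commute.zpow_zpow_self _ j l)))⟩⟩
    have hD3 : ∀ g : h.D, g ^ 3 = 1 := by
      rintro ⟨_, i, j, rfl⟩
      exact Subtype.ext (h.d3 i j)
    rw [← S0058.result h.D W (fun ⟨g, hg⟩ => by
      obtain ⟨i, hi⟩ := hg ⟨z, 1, 0, by simp⟩
      obtain ⟨j, hj⟩ := hg ⟨κ t5, 0, 1, by simp⟩
      have g3 : (g : G) ^ 3 = 1 := congrArg Subtype.val (hD3 g)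
      have a1 := zpow3 g3 i
      have a2 := zpow3 g3 j
      rw [show (g : G) ^ i = z from congrArg Subtype.val hi] at a1
      rw [show (g : G) ^ j = κ t5 from congrArg Subtype.val hj] at a2
      generalize (g : G) = g at a1 a2
      rcases a1 with a1 | a1 | a1
      · exact h.z1 a1
      all_goals
        rcases a2 with a2 | a2 | a2
        · exact zt 0 t5 (by decide +kernel) (by simpa using a2)
        all_goals
          first
          | exact zt 1 t5 (by decide +kernel) (by rw [zpow_one, a2, a1]; simp)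
          | exact zt (-1) t5 (by decide +kernel) (by rw [zpow_neg_one, a2, a1]; simp))
      (by
        rintro _ ⟨i, j, rfl⟩
        exact mul_mem (zpow_mem (mem_normalizer_fintype nz) i) (zpow_mem (mem_normalizer_fintype nt) j))
      (by
        obtain ⟨n, hn⟩ := IsPGroup.iff_card.1 (show IsPGroup 3 h.D from fun g => ⟨1, hD3 g⟩)
        exact hn ▸ hcop.symm.pow_left n)]
    refine iSup₂_le ?_
    rintro _ ⟨⟨i, j, rfl⟩, h1⟩ g ⟨hg, hc⟩
    have hc : Commute g (z ^ i * κ t5 ^ j) := mem_centralizer_singleton_iff.1 hc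
    have b1 : Commute g z → g ∈ K := fun hc => by
      obtain ⟨k, rfl⟩ := h.cop ((hW g).1 hg).2 hc
      exact k1 k
    have b2 : Commute g (κ t5) → g ∈ K := fun hc => by
      obtain ⟨k, hk⟩ := h.cop (oc s g ▸ ((hW g).1 hg).2) (h.sz' ▸ cmc hc s)
      have := h.ss' g
      rw [hk] at this
      exact this ▸ k2 k (this ▸ hg)
    have b3 : Commute g (z * κ t5) → g ∈ K := fun hc =>
      key 1 (Commute.one_left z) g hg (by simpa using hc) ▸ one_mem K
    have b4 : Commute g (z * (κ t5)⁻¹) → g ∈ K := fun hc => by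
      have := cmc hc (κ r5)
      rw [← conj_mul, ← (h.zc r5).eq, mul_inv_cancel_right, ← map_inv κ t5, ← map_inv κ r5,
        ← map_mul, ← map_mul, show r5 * t5⁻¹ * r5⁻¹ = t5 by decide +kernel, map_inv] at this
      exact key _ (h.zc r5).symm g hg this ▸ one_mem K
    rcases zpow3 h.z3 i with a | a | a <;> rcases zpow3 t3 j with b | b | b <;>
      rw [a, b] at h1 hc
    exacts [absurd (one_mul 1) h1, b2 (by simpa using hc), b2 (by simpa using hc),
      b1 (by simpa using hc), b3 hc, b4 hc, b1 (by simpa using hc),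
      b4 (by simpa [(h.zc t5).inv_left.mul_inv] using hc.inv_right),
      b3 (by simpa [(h.zc t5).inv_inv.mul_inv] using hc.inv_right)]
  · let B := W.comap ((MulAut.conj s).toMonoidHom.comp κ)
    have b1 : ∀ l ∈ B, t5 * l * t5⁻¹ ∈ B := fun l hl => by
      show s * κ _ * s⁻¹ ∈ W
      rw [map_mul, map_mul, map_inv, ← conj_mul, ← conj_mul, ← conj_inv, h.sz']
      exact nz _ hl
    have b2 : ∀ l ∈ B, l ^ 3 = 1 → l = 1 := fun l hl h3 => h.inj (by
      rw [map_one]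
      exact conj_eq_one_iff.1 (one _ hl (by
        show (s * κ _ * s⁻¹) ^ 3 = 1
        rw [conj_pow, ← map_pow, h3]; simp)))
    have m0 : k ∈ B := hk
    have m1 := b1 _ m0
    have m2 := b1 _ m1
    rcases (by simp only [forall_eq]; decide +kernel : ∀ k k1 : A5, k1 = t5 * k * t5⁻¹ →
      ∀ k2 : A5, k2 = t5 * k1 * t5⁻¹ →
      (k ^ 3 = 1 → k = 1) → ((k * k1) ^ 3 = 1 → k * k1 = 1) →
      ((k * k1⁻¹) ^ 3 = 1 → k * k1⁻¹ = 1) → ((k * k1 * k * k2) ^ 3 = 1 → k * k1 * k * k2 = 1) →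
      k = 1 ∨ k = v5 ∨ k1 = v5 ∨ k2 = v5 ∨ k = w5 ∨ k1 = w5 ∨ k2 = w5) k _ rfl _ rfl (b2 _ m0)
      (b2 _ (mul_mem m0 m1)) (b2 _ (mul_mem m0 (inv_mem m1)))
      (b2 _ (mul_mem (mul_mem (mul_mem m0 m1) m0) m2)) with e | e | e | e | e | e | e
    exacts [.inl e, .inr (.inl (show v5 ∈ B from e ▸ m0)), .inr (.inl (show v5 ∈ B from e ▸ m1)),
      .inr (.inl (show v5 ∈ B from e ▸ m2)), .inr (.inr (show w5 ∈ B from e ▸ m0)),
      .inr (.inr (show w5 ∈ B from e ▸ m1)), .inr (.inr (show w5 ∈ B from e ▸ m2))]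

/-- The recognition theorem. -/
theorem main (h27 : ¬ 27 ∣ Nat.card G) : Nonempty (G ≃* A8) := by
  obtain ⟨W, w1, w2, w3, w4⟩ := h.step1
  obtain ⟨α, a1, a2, a3, a4⟩ : ∃ α : MulAut A5, α t5 = t5 ∧ α r5 = r5 ∧
      cjs 0 1 (α w5) = α w5 ∧ s * κ (α w5) * s⁻¹ ∈ W := by
    by_contra hn
    refine h.step2 fun g h1 h2 => ?_
    obtain ⟨w, hw, i, rfl⟩ := w1 g h1 h2
    refine Commute.mul_left (mem_centralizer_singleton_iff.1 (w3 (centralizer {z})
      (fun k => mem_centralizer_singleton_iff.2 (h.zc k).symm) (fun k hk => ?_) hw))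
      (Commute.zpow_self z i)
    rcases w4 k hk with rfl | e | e
    · simp
    · exact absurd ⟨cjs 3 4, by decide +kernel, by decide +kernel, by decide +kernel,
        (show v5 = cjs 3 4 w5 by decide +kernel) ▸ e⟩ hn
    · exact absurd ⟨1, rfl, rfl, by decide +kernel, e⟩ hn
  let κ' : A5 →* G := (MulAut.conj s).toMonoidHom.comp (κ.comp α.toMonoidHom)
  have hk : ∀ k, κ' k = s * κ (α k) * s⁻¹ := fun _ => rfl
  have kt : κ' t5 = z := by rw [hk, a1, h.sz']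
  obtain ⟨φ, hφ, f1, f2, r1, r2, -⟩ := carm κ κ'
    (fun e => absurd (h.inj (e.trans (map_one κ).symm)) (by decide +kernel))
    (fun k => kt ▸ (h.zc k).symm) (fun k => h.sz ▸ cmc (h.zc _).symm s) (by
      have c1 : Commute c (κ v5) := h.ck' (by decide +kernel)
      have c2 : Commute c (κ' w5) := by
        have := cmc (h.ck' a3) s
        rwa [← h.cs.eq, mul_inv_cancel_right] at this
      have c3 : Commute (κ' w5) (κ v5) := w2 _ a4
      have e : κ q5 * κ' q5 = κ v5 * c * κ' w5 := by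
        conv_lhs => rw [show κ q5 = κ (v5 * r5) by congr 1; decide +kernel,
          show κ' q5 = κ' (r5 * w5) by congr 1; decide +kernel, map_mul, map_mul, hk r5, a2, h.sr]
        simp only [← mul_assoc]
        rw [mul_assoc (κ v5) (κ r5), ← map_mul κ r5, show r5 * r5 = 1 by decide +kernel, map_one,
          mul_one]
      rw [e, (c3.symm.mul_left c2).mul_pow, c1.symm.mul_pow, sq c, h.cc, ← map_pow, ← map_pow,
        show v5 ^ 2 = 1 by decide +kernel, show w5 ^ 2 = 1 by decide +kernel, map_one, map_one,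
        mul_one, mul_one])
  have hz : z ∈ φ.range := r2 ⟨_, kt⟩
  have fv : φ (dt 3 4 5 6) = κ v5 := f1 _ _ (by decide +kernel)
  have fu : φ (dt 3 5 4 6) = κ u5 := f1 _ _ (by decide +kernel)
  have fy : φ y8 = z * κ t5 := by
    rw [y8, map_mul, f1 (dt 3 4 4 5) t5 (by decide +kernel),
      f2 (dt 0 1 1 2) t5 (by decide +kernel), kt]
  have cs : Commute (φ s8) (z * κ t5) :=
    fy ▸ Commute.map (show s8 * y8 = y8 * s8 by decide +kernel) φ
  have hd : ∀ i j : ℤ, z ^ i * κ t5 ^ j ∈ φ.range := fun i j =>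
    mul_mem (zpow_mem hz i) (zpow_mem (r1 ⟨_, rfl⟩) j)
  refine endA8 φ hφ (fv ▸ h.nc cs) (fun g h1 h2 => ?_) (fun g h1 _ => ?_) h27
  · obtain ⟨w, hw, i, rfl⟩ := w1 g (fv ▸ h1) (fu ▸ h2)
    exact mul_mem (w3 _ (fun k => r1 ⟨k, rfl⟩) (fun k _ => r2 ⟨α.symm k, by
      rw [hk, MulEquiv.apply_symm_apply]⟩) hw) (zpow_mem hz i)
  · obtain ⟨i, j, rfl | rfl⟩ := h.cy g (fy ▸ h1)
    · exact hd i j
    · refine mul_mem (hd i j) ?_
      obtain ⟨i, j, e | e⟩ := h.cy _ cs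
      · have := h.d3 i j
        rw [← e, ← map_pow, map_eq_one_iff _ hφ] at this
        exact absurd this (by decide +kernel)
      · exact (φ.range.mul_mem_cancel_left (hd i j)).1 ⟨_, e⟩

end Dat

end Cfsg.Agent.H63.L3A
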