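import Cfsg.Agent.H63.ABGSetB
import Cfsg.Agent.H2.AbgC

/-!
# Step A1 c)-f) without maximality of the centralizer
-/

set_option autoImplicit false

namespace Cfsg.Agent.H63.ABG

open Subgroup Cfsg.Agent.H52 Cfsg.Agent.H9.GW Cfsg.Agent.H2.AbgC
open Cfsg.Agent.H9.ABG hiding LL_le
open scoped commutatorElement Pointwise

universe u

theorem ha1c : HA1cStmt.{u} := by
  intro G _ _ F _ _ p qh E _ h3 z r hr h2 H' hz
  have H : HY z r := fun u h => ⟨(H' u h).1, (H' u h).2.2⟩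
  obtain ⟨u, h⟩ := E.ex z hz
  obtain ⟨t, ht⟩ := E.tt z u h
  obtain ⟨hw, hw', e⟩ := pr_w h ht
  have hP := Op_pgroup r (Cz z)
  have ho := odd_of hr h2 hP
  have T := fun {V} (hV : Ch V) k {v} => tprime E h3 H ht.mem ht.sq hV k (u := v)
  have S := fun {v} => star hr h2 H (u := v)
  have sq : ∀ {v} (h : Pr z v) x, act z r ⟨v, mem_Cz.2 h.comm⟩ (act z r ⟨v, mem_Cz.2 h.comm⟩ x) = x :=
    fun h x => by
      rw [← MulAut.mul_apply, ← map_mul, show (⟨_, mem_Cz.2 h.comm⟩ * ⟨_, mem_Cz.2 h.comm⟩ : Cz z) = 1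
        from Subtype.ext (sq_of_ord h.hu), map_one, MulAut.one_apply]
  have c1 : ∀ x ∈ center (Op r (Cz z)), act z r ⟨u, mem_Cz.2 h.comm⟩ x = x⁻¹ →
      act z r ⟨_, mem_Cz.2 hw.comm⟩ x = x → x = 1 := fun x hx e1 e2 => Subtype.ext (cc E hr h2 H h ht x.2
    (fun y hy => congrArg Subtype.val (mem_center_iff.1 hx ⟨y, hy⟩)) (congrArg Subtype.val e1)
    (mem_Cz_comm.1 (mem_Cz'.2 (congrArg Subtype.val e2))))
  have c2 : ∀ x ∈ center (Op r (Cz z)), act z r ⟨u, mem_Cz.2 h.comm⟩ x = x →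
      act z r ⟨_, mem_Cz.2 hw.comm⟩ x = x⁻¹ → x = 1 := fun x hx e1 e2 => Subtype.ext (cc E hr h2 H hw hw' x.2
    (fun y hy => congrArg Subtype.val (mem_center_iff.1 hx ⟨y, hy⟩)) (congrArg Subtype.val e2)
    (e ▸ mem_Cz_comm.1 (mul_mem (mem_Cz'.2 (congrArg Subtype.val e1)) (mem_Cz_comm.1 (Op_le _ x.2)))))
  have tt : ∀ x, act z r ⟨u, mem_Cz.2 h.comm⟩ (act z r ⟨_, mem_Cz.2 hw.comm⟩ x) =
      act z r ⟨t, LL_le z ht.mem⟩ x := fun x => by
    rw [← MulAut.mul_apply, ← map_mul]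
    exact congrArg (act z r · x) (Subtype.ext (by
      show u * (u * t) = t
      rw [← mul_assoc, sq_of_ord h.hu, one_mul]))
  have t2 : ∀ x, act z r ⟨t, LL_le z ht.mem⟩ (act z r ⟨t, LL_le z ht.mem⟩ x) = x := fun x => by
    rw [← MulAut.mul_apply, ← map_mul, show (⟨t, LL_le z ht.mem⟩ * ⟨t, LL_le z ht.mem⟩ : Cz z) =
      ⟨z, self_mem_Cz z⟩ from Subtype.ext ht.sq, act_z, MulAut.one_apply]
  have aa := sq h
  have bb := sq hw
  have sa := S h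
  have sb := S hw
  have Ta := fun {V} hV k => T (V := V) hV k h
  have Tb := fun {V} hV k => T (V := V) hV k hw
  obtain ⟨a, a1, ea⟩ : ∃ a ≠ 1, act z r ⟨u, mem_Cz.2 h.comm⟩ a = a := by
    obtain ⟨⟨a, ha⟩, a1⟩ := (ne_bot_iff_exists_ne_one).1 (H u h).1
    exact ⟨⟨a, ha.1⟩, fun e => a1 (Subtype.ext (congrArg Subtype.val e :)),
      Subtype.ext (mem_Cz'.1 (mem_Cz_comm.1 ha.2))⟩
  have C := fun S [Normal S] => cover (r := r) E h3 hz ht.mem ht.sq S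
  generalize act z r ⟨u, mem_Cz.2 h.comm⟩ = α at *
  generalize act z r ⟨_, mem_Cz.2 hw.comm⟩ = β at *
  generalize act z r ⟨t, LL_le z ht.mem⟩ = τ at *
  have ab : ∀ x, α (β x) = β (α x) := fun x => by
    rw [tt, ← t2 (β (α x)), ← tt (β (α x)), bb, aa]
  have hZ : Ch (center (Op r (Cz z))) := fun ψ _ => H7.mem_of_char ψ
  have tZ : ∀ x ∈ center (Op r (Cz z)), τ x = x := fun x hx => by_contra fun n => by
    obtain ⟨b, hb, b1, ⟨e1, e2⟩ | ⟨e1, e2⟩⟩ := Ab.neg (α := α.toMonoidHom) (β := β.toMonoidHom)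
      ⟨fun x _ y hy => mem_center_iff.1 hy x, hZ α, hZ β, aa, bb, ab, fun v _ => eq_one_of_odd (ho v)⟩
      hx (tt x ▸ n)
    exacts [b1 (c2 b hb e1 e2), b1 (c1 b hb e1 e2)]
  have A : AB r α β := ⟨hP, aa, bb, ab, fun x => inv_of_fpf ho aa (hZ α) (Ta hZ tZ),
    fun x => inv_of_fpf ho bb (hZ β) (Tb hZ tZ), sa, sb⟩
  have nc : ¬ IsCyclic (Op r (Cz z)) := fun k => a1 (Ta hZ tZ a (mem_center_iff.2 fun g =>
    (isMulCommutative_iff.1 inferInstance) g a) ea)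
  have hW : Ch (Wd (Op r (Cz z)) hr h2) := fun ψ _ => Wd_map ψ
  rcases A.dich (hr := hr) (h2 := h2) with k | k <;> simp only [tt] at k
  · exact a1 (Ta (V := ⊤) (fun _ _ _ => trivial) (fun x _ => tt x ▸ A.fin nc (Ta hW k) (Tb hW k) x)
      a trivial ea)
  have := St_normal hW hZ
  have k' := (C (St hW) fun c x hx => pi_eq.1 (by
    have := pi_map (act z r c) ((k _ (hW (act z r c)⁻¹ _ (hW τ⁻¹ x hx))).trans (map_inv _ _).symm)
    rw [commutatorElement_def, MulAut.mul_apply, MulAut.mul_apply, MulAut.mul_apply, this, map_inv,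
      MulAut.apply_inv_self, map_inv, ← k _ (hW τ⁻¹ x hx), MulAut.apply_inv_self])).1
  obtain ⟨K, k1, k2⟩ := sa a a1 ea
  refine not_le_cyc (hr := hr) (h2 := h2) hP nc k1 fun x hx => ?_
  have z : x ∈ center _ := mem_of_sq (ho x) (pi_one.1 (by
    rw [map_mul, ← eq_inv_iff_mul_eq_one, ← k x hx]; exact pi_eq.2 (k' x hx)))
  exact k2 x (mem_center_iff.1 z a).symm (A.za x z)

end Cfsg.Agent.H63.ABG
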