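import Cfsg.Agent.H63.BG14a3
import Cfsg.Agent.H63.Frob

/-!
Bender–Glauberman, section 14, first half (basics, 14.1–14.6): see `BG14a1`, `BG14a2`, `BG14a3`.
-/
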