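import Cfsg.Agent.H3.BG14B3

/-! Bender–Glauberman, section 14, second half (14.7–14.13): proved in `H3.BG14B1`–`H3.BG14B3`. -/
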