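import Cfsg.Agent.H73.BdDefs

set_option autoImplicit false

namespace Cfsg.Agent.H63.BdLat

open Filter Topology Cfsg.Agent.H73.Bd

universe u

theorem line {k : ℕ} (j : Fin k) (Γ : AddSubgroup (Fin k → ℝ)) (hc : IsClosed (Γ : Set (Fin k → ℝ)))
    (h : ∀ x ∈ Γ, x j ≤ ∑ i, x i ^ 2) (z : ℕ → Fin k → ℝ) (hz : ∀ m, z m ∈ Γ)
    (z0 : Tendsto z atTop (𝓝 0)) (zj : ∀ m, z m j ≠ 0) : False := by
  let V : Submodule ℝ (Fin k → ℝ) :=
    { carrier := {v | ∀ t : ℝ, t • v ∈ Γ}
      add_mem' := fun ha hb t => by rw [smul_add]; exact add_mem (ha t) (hb t)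
      zero_mem' := fun t => by rw [smul_zero]; exact zero_mem _
      smul_mem' := fun c v hv t => by rw [smul_smul]; exact hv _ }
  have hV : ∀ v ∈ V, v j = 0 := fun v hv => by
    by_contra e
    have hs : 0 ≤ ∑ i, v i ^ 2 := Finset.sum_nonneg fun i _ => sq_nonneg _
    set S := ∑ i, v i ^ 2 with hS
    have h1 := h _ (hv (v j / (S + 1)))
    simp only [Pi.smul_apply, smul_eq_mul, mul_pow, ← Finset.mul_sum] at h1
    rw [← hS] at h1
    have h2 : 0 < v j ^ 2 := by positivity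
    have h3 : 0 < S + 1 := by linarith
    have h4 : v j / (S + 1) * v j = v j ^ 2 * (S + 1) / (S + 1) ^ 2 := by field_simp
    have h5 : (v j / (S + 1)) ^ 2 * S = v j ^ 2 * S / (S + 1) ^ 2 := by field_simp
    rw [h4, h5, div_le_div_iff_of_pos_right (by positivity)] at h1
    nlinarith
  obtain ⟨W, hW⟩ := V.exists_isCompl
  let π : (Fin k → ℝ) →ₗ[ℝ] (Fin k → ℝ) := W.subtype ∘ₗ W.projectionOnto V hW.symm
  have πW : ∀ x, π x ∈ W := fun x => (W.projectionOnto V hW.symm x).2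
  have πV : ∀ x, x - π x ∈ V := fun x => by
    obtain ⟨a, ha, b, hb, rfl⟩ := Submodule.mem_sup.1 (hW.sup_eq_top.ge (Submodule.mem_top (x := x)))
    have e1 : π a = 0 := by simp [π, Submodule.projectionOnto_apply_of_mem_right _ ha]
    have e2 : π b = b := by
      simp [π, show W.projectionOnto V hW.symm b = ⟨b, hb⟩ from Submodule.projectionOnto_apply_left hW.symm ⟨b, hb⟩]
    simpa [e1, e2] using ha
  let w : ℕ → Fin k → ℝ := fun m => π (z m)
  have wΓ : ∀ m, w m ∈ Γ := fun m => by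
    have := sub_mem (hz m) (show z m - π (z m) ∈ Γ by simpa using πV (z m) 1)
    simpa using this
  have w0 : Tendsto w atTop (𝓝 0) := by
    have := (π.continuous_of_finiteDimensional.tendsto 0).comp z0
    rw [map_zero] at this
    exact this
  have wn : ∀ m, 0 < ‖w m‖ := fun m => norm_pos_iff.2 fun e => zj m (by
    have := hV _ (πV (z m))
    have e' : π (z m) = 0 := e
    simpa [e'] using this)
  obtain ⟨y, hy, φ, hφ, ly⟩ := (isCompact_sphere (0 : Fin k → ℝ) 1).tendsto_subseq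
    (x := fun m => ‖w m‖⁻¹ • w m) (fun m => by simp [norm_smul, (wn m).ne'])
  have yW : y ∈ W := W.closed_of_finiteDimensional.mem_of_tendsto ly
    (Eventually.of_forall fun m => W.smul_mem _ (πW _))
  have yV : y ∈ V := fun t => by
    refine hc.mem_of_tendsto (f := fun m => ⌊t / ‖w (φ m)‖⌋ • w (φ m)) (b := atTop) ?_
      (Eventually.of_forall fun m => zsmul_mem (wΓ _) _)
    have l1 := ly.const_smul t
    have l2 : Tendsto (fun m => Int.fract (t / ‖w (φ m)‖) • w (φ m)) atTop (𝓝 0) := by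
      refine squeeze_zero_norm (fun m => ?_) (tendsto_zero_iff_norm_tendsto_zero.1 (w0.comp hφ.tendsto_atTop))
      rw [norm_smul, Real.norm_of_nonneg (Int.fract_nonneg _)]
      exact mul_le_of_le_one_left (norm_nonneg _) (Int.fract_lt_one _).le
    have := l1.sub l2
    rw [sub_zero] at this
    refine this.congr fun m => ?_
    simp only [Function.comp, smul_smul]
    rw [← sub_smul, ← div_eq_mul_inv, Int.self_sub_fract, Int.cast_smul_eq_zsmul]
  have : y = 0 := (Submodule.disjoint_def.1 hW.disjoint) y yV yW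
  simp [this] at hy

theorem core {k : ℕ} (j : Fin k) : ∃ Q : ℕ, ∀ (d : Fin k → ℤ) (q : ℕ), 0 < q → d j = 1 →
    (∀ (u : ℤ) (n : Fin k → ℤ), (∀ i, (q : ℤ) ∣ n i - u * d i) → (q : ℤ) * n j ≤ ∑ i, n i ^ 2) →
    q ≤ Q := by
  by_contra hcon
  push Not at hcon
  choose d q q0 dj H hq using hcon
  let U : Ultrafilter ℕ := hyperfilter ℕ
  have hU : (U : Filter ℕ) ≤ atTop := Nat.hyperfilter_le_atTop
  let L : ℕ → (Fin k → ℝ) → Prop := fun Q y => ∃ (u : ℤ) (n : Fin k → ℤ),
    (∀ i, (q Q : ℤ) ∣ n i - u * d Q i) ∧ ∀ i, y i = n i / q Q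
  let Γ : AddSubgroup (Fin k → ℝ) :=
    { carrier := {x | ∀ ε > 0, ∀ᶠ Q in (U : Filter ℕ), ∃ y, L Q y ∧ dist y x < ε}
      zero_mem' := fun ε hε => Eventually.of_forall fun Q => ⟨0, ⟨0, 0, by simp, by simp⟩, by simpa⟩
      add_mem' := fun {a b} ha hb ε hε => by
        filter_upwards [ha (ε / 2) (by positivity), hb (ε / 2) (by positivity)] with Q
          ⟨y, ⟨u, n, h1, h2⟩, h3⟩ ⟨y', ⟨u', n', h1', h2'⟩, h3'⟩
        refine ⟨y + y', ⟨u + u', n + n', fun i => ?_, fun i => ?_⟩, ?_⟩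
        · have := dvd_add (h1 i) (h1' i)
          rwa [show n i - u * d Q i + (n' i - u' * d Q i) = (n + n') i - (u + u') * d Q i by
            rw [Pi.add_apply]; ring] at this
        · simp [h2, h2', add_div]
        · linarith [dist_add_add_le y y' a b]
      neg_mem' := fun {a} ha ε hε => by
        filter_upwards [ha ε hε] with Q ⟨y, ⟨u, n, h1, h2⟩, h3⟩
        refine ⟨-y, ⟨-u, -n, fun i => ?_, fun i => ?_⟩, by simpa using h3⟩
        · have := (h1 i).neg_right
          rwa [show -(n i - u * d Q i) = (-n) i - (-u) * d Q i by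
            rw [Pi.neg_apply]; ring] at this
        · simp [h2, neg_div] }
  have hc : IsClosed (Γ : Set (Fin k → ℝ)) := by
    refine isClosed_of_closure_subset fun x hx ε hε => ?_
    obtain ⟨b, hb, e⟩ := Metric.mem_closure_iff.1 hx (ε / 2) (by positivity)
    filter_upwards [hb (ε / 2) (by positivity)] with Q ⟨y, h1, h2⟩
    exact ⟨y, h1, by linarith [dist_triangle_right y x b]⟩
  have hL : ∀ Q y, L Q y → y j ≤ ∑ i, y i ^ 2 := fun Q y ⟨u, n, h1, h2⟩ => by
    have h3 : ((q Q : ℝ)) * n j ≤ ∑ i, (n i : ℝ) ^ 2 := by exact_mod_cast H Q u n h1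
    have h4 : (0 : ℝ) < q Q := by exact_mod_cast q0 Q
    simp only [h2, div_pow, ← Finset.sum_div]
    rw [div_le_div_iff₀ h4 (by positivity)]
    nlinarith
  have hΓ : ∀ x ∈ Γ, x j ≤ ∑ i, x i ^ 2 := fun x hx => by
    have cl : IsClosed {y : Fin k → ℝ | y j ≤ ∑ i, y i ^ 2} := isClosed_le (by fun_prop) (by fun_prop)
    refine cl.closure_subset (Metric.mem_closure_iff.2 fun ε hε => ?_)
    obtain ⟨Q, y, h1, h2⟩ := (hx ε hε).exists
    exact ⟨y, hL Q y h1, by rwa [dist_comm]⟩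
  have K := isCompact_closedBall (0 : Fin k → ℝ) 1
  have sur : ∀ t : ℝ, 0 ≤ t → t < 1 → ∃ x ∈ Γ, x ∈ Metric.closedBall (0 : Fin k → ℝ) 1 ∧ x j = t := by
    intro t t0 t1
    let y : ℕ → Fin k → ℝ := fun Q i => ((⌊t * q Q⌋ * d Q i % q Q : ℤ) : ℝ) / q Q
    have qp : ∀ Q, (0 : ℝ) < q Q := fun Q => by exact_mod_cast q0 Q
    have qz : ∀ Q, (0 : ℤ) < q Q := fun Q => by exact_mod_cast q0 Q
    have yK : ∀ Q, y Q ∈ Metric.closedBall (0 : Fin k → ℝ) 1 := fun Q => by
      rw [mem_closedBall_zero_iff, pi_norm_le_iff_of_nonneg zero_le_one]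
      intro i
      have a : (0 : ℝ) ≤ ((⌊t * q Q⌋ * d Q i % q Q : ℤ) : ℝ) := by
        exact_mod_cast Int.emod_nonneg _ (qz Q).ne'
      have b : ((⌊t * q Q⌋ * d Q i % q Q : ℤ) : ℝ) ≤ q Q := by
        exact_mod_cast (Int.emod_lt_of_pos _ (qz Q)).le
      rw [Real.norm_of_nonneg (div_nonneg a (qp Q).le)]
      exact (div_le_one (qp Q)).2 b
    obtain ⟨x, hx, lx⟩ := K.ultrafilter_le_nhds (U.map y)
      (le_principal_iff.2 (mem_map.2 (Eventually.of_forall yK)))
    have lx' : Tendsto y U (𝓝 x) := lx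
    refine ⟨x, fun ε hε => ?_, hx, ?_⟩
    · filter_upwards [Metric.tendsto_nhds.1 lx' ε hε] with Q hQ
      exact ⟨y Q, ⟨⌊t * q Q⌋, fun i => ⌊t * q Q⌋ * d Q i % q Q, fun i => Int.dvd_emod_sub_self, fun i => rfl⟩, hQ⟩
    · refine tendsto_nhds_unique (tendsto_pi_nhds.1 lx' j) (Tendsto.mono_left ?_ hU)
      have qt : Tendsto (fun Q => (q Q : ℝ)) atTop atTop :=
        tendsto_natCast_atTop_atTop.comp (tendsto_atTop_mono (fun Q => (hq Q).le) tendsto_id)
      have l2 : Tendsto (fun Q => Int.fract (t * q Q) / q Q) atTop (𝓝 0) :=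
        squeeze_zero (fun Q => div_nonneg (Int.fract_nonneg _) (qp Q).le)
          (fun Q => div_le_div_of_nonneg_right (Int.fract_lt_one _).le (qp Q).le)
          (tendsto_const_nhds.div_atTop qt)
      have := (tendsto_const_nhds (x := t)).sub l2
      rw [sub_zero] at this
      refine this.congr fun Q => ?_
      have a : 0 ≤ ⌊t * q Q⌋ := Int.floor_nonneg.2 (mul_nonneg t0 (qp Q).le)
      have b : ⌊t * q Q⌋ < q Q := Int.floor_lt.2 (by push_cast; nlinarith [qp Q])
      simp only [y, dj, mul_one, Int.emod_eq_of_lt a b]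
      rw [← Int.self_sub_fract]
      field_simp [(qp Q).ne']
  choose x xΓ xK xj using fun m : ℕ => sur (1 / ((m : ℝ) + 2)) (by positivity)
    ((div_lt_one (by positivity)).2 (by linarith [Nat.cast_nonneg (α := ℝ) m]))
  obtain ⟨a, -, φ, hφ, la⟩ := K.tendsto_subseq xK
  refine line j Γ hc hΓ (fun m => x (φ m) - x (φ (m + 1))) (fun m => sub_mem (xΓ _) (xΓ _)) ?_ fun m => ?_
  · simpa using la.sub (la.comp (tendsto_add_atTop_nat 1))
  · have : (φ m : ℝ) < φ (m + 1) := by exact_mod_cast hφ (Nat.lt_succ_self m)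
    simp only [Pi.sub_apply, xj]
    exact (sub_pos.2 (one_div_lt_one_div_of_lt (by positivity) (by linarith))).ne'

theorem lat : LatStmt.{u} := by
  intro k
  choose Q hQ using fun j : Fin k => core j
  refine ⟨Finset.univ.sup Q, fun ι _ hι i0 d q q0 hd H => ?_⟩
  classical
  obtain ⟨e⟩ : Nonempty (ι ↪ Fin k) := Function.Embedding.nonempty_of_card_le (by simpa using hι)
  refine (hQ (e i0) (Function.extend e d 0) q q0 (by rw [e.injective.extend_apply, hd])
    fun u n hn => ?_).trans (Finset.le_sup (Finset.mem_univ _))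
  refine (H u (fun i => n (e i)) fun i => by simpa [e.injective.extend_apply] using hn (e i)).trans ?_
  rw [← Finset.sum_map Finset.univ e fun i => n i ^ 2]
  exact Finset.sum_le_sum_of_subset_of_nonneg (Finset.subset_univ _) fun _ _ _ => sq_nonneg _

end Cfsg.Agent.H63.BdLat
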