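import Cfsg.Agent.H78.G40B

/-! Project L40G: the centralizer of `V` in the symplectic case normalizes the three `Q i`. -/

set_option autoImplicit false
set_option linter.unusedSectionVars false

noncomputable section

namespace Cfsg.Agent.H63.Cv2a

open Subgroup Cfsg.Agent.H83 Cfsg.Agent.H46.L40 Cfsg.Agent.H78.G40

universe u

local notation "C[" A "]" => Subgroup.centralizer (SetLike.coe A)
local notation "N[" A "]" => Subgroup.normalizer (SetLike.coe A)

section Bar
variable {G : Type u} [Group G] [Finite G] (H V : Subgroup G) [(V.subgroupOf H).Normal]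

/-- the projection -/
abbrev pr : H →* H ⧸ V.subgroupOf H := QuotientGroup.mk' (V.subgroupOf H)

/-- the image of a subgroup -/
def br (K : Subgroup G) : Subgroup (H ⧸ V.subgroupOf H) := (K.subgroupOf H).map (pr H V)

variable {H V}

theorem pr_eq {x y : H} : pr H V x = pr H V y ↔ (x : G)⁻¹ * y ∈ V := by
  rw [QuotientGroup.mk'_apply, QuotientGroup.mk'_apply, QuotientGroup.eq, mem_subgroupOf]; rfl

theorem pr_one {x : H} : pr H V x = 1 ↔ (x : G) ∈ V := by
  rw [QuotientGroup.mk'_apply, QuotientGroup.eq_one_iff, mem_subgroupOf]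

theorem pr_surj (x : H ⧸ V.subgroupOf H) : ∃ h, pr H V h = x := QuotientGroup.mk'_surjective _ x

theorem mem_br {K : Subgroup G} (hK : V ≤ K) {h : H} : pr H V h ∈ br H V K ↔ (h : G) ∈ K := by
  refine ⟨fun ⟨k, hk, e⟩ => ?_, fun hh => ⟨h, hh, rfl⟩⟩
  simpa using K.mul_mem (mem_subgroupOf.1 hk) (hK (pr_eq.1 e))

theorem norm_br {K : Subgroup G} (hK : V ≤ K) (hKH : K ≤ H) {h : H} :
    pr H V h ∈ N[br H V K] ↔ (h : G) ∈ N[K] := by
  rw [mem_normalizer_iff, mem_normalizer_iff]
  constructor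
  · intro c x
    constructor
    · intro hx
      have := (c (pr H V ⟨x, hKH hx⟩)).1 ((mem_br hK).2 hx)
      rw [← map_inv, ← map_mul, ← map_mul, mem_br hK] at this
      exact this
    · intro hx
      have xH : x ∈ H := by
        simpa [mul_assoc] using H.mul_mem (H.mul_mem (H.inv_mem h.2) (hKH hx)) h.2
      have := (c (pr H V ⟨x, xH⟩)).2 (by
        rw [← map_inv, ← map_mul, ← map_mul, mem_br hK]; exact hx)
      exact (mem_br hK).1 this
  · intro c x
    obtain ⟨x, rfl⟩ := pr_surj x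
    rw [← map_inv, ← map_mul, ← map_mul, mem_br hK, mem_br hK]
    exact c x

theorem card_br {K : Subgroup G} (hK : V ≤ K) (hKH : K ≤ H) :
    Nat.card V * Nat.card (br H V K) = Nat.card K := by
  rw [br, ← relIndex_ker, QuotientGroup.ker_mk', relIndex_subgroupOf hKH,
    ← Nat.card_congr (subgroupOfEquivOfLe hK).toEquiv]
  exact card_mul_index _

theorem syl_br {A N : Subgroup G} (hV : IsPGroup 2 V) (hA : V ≤ A) (hN : N ≤ H)
    (h : IsSylowIn 2 A N) : IsSylowIn 2 (br H V A) (br H V N) := by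
  refine ⟨map_mono (comap_mono h.le), h.isPGroup.comap_subtype.map _, fun P hP hp hle => ?_⟩
  have h1 : IsPGroup 2 ((P.comap (pr H V)).map H.subtype) :=
    (hp.comap_of_ker_isPGroup _ (by
      rw [QuotientGroup.ker_mk']; exact hV.comap_subtype)).map _
  have h2 := h.max _ (by
    rintro _ ⟨x, hx, rfl⟩
    exact (mem_br (hA.trans h.le)).1 (hP hx)) h1
    fun x hx => ⟨⟨x, hN (h.le hx)⟩, hle ((mem_br hA).2 hx), rfl⟩
  refine le_antisymm (fun x hx => ?_) hle
  obtain ⟨x, rfl⟩ := pr_surj x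
  rw [mem_br hA, ← h2]
  exact ⟨x, hx, rfl⟩

end Bar

theorem mem_V0 {m : S3} : m ∈ V0 ↔ m = 1 ∨ m = z0 ∨ m = a0 ∨ m = z0 * a0 := by
  constructor
  · intro h
    induction h using closure_induction with
    | mem x hx => rcases hx with rfl | rfl <;> simp
    | one => simp
    | mul x y _ _ hx hy =>
      rcases hx with rfl | rfl | rfl | rfl <;> rcases hy with rfl | rfl | rfl | rfl <;>
        decide +kernel
    | inv x _ hx => rcases hx with rfl | rfl | rfl | rfl <;> decide +kernel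
  · have hz : z0 ∈ V0 := subset_closure (by simp)
    have ha : a0 ∈ V0 := subset_closure (by simp)
    rintro (rfl | rfl | rfl | rfl)
    exacts [one_mem _, hz, ha, mul_mem hz ha]

theorem card_V0 : Nat.card V0 = 4 := by
  have : (V0 : Set S3) = (({1, z0, a0, z0 * a0} : Finset S3) : Set S3) := by
    ext m; simp [mem_V0]
  rw [← SetLike.coe_sort_coe, this, Nat.card_coe_set_eq, Set.ncard_coe_finset]
  decide +kernel

theorem sq_V0 {m : S3} (h : m ∈ V0) : m * m = 1 := by
  rcases mem_V0.1 h with rfl | rfl | rfl | rfl <;> decide +kernel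

theorem norm_of {G : Type u} [Group G] {K : Subgroup G} {t : G} (tt : t * t = 1)
    (h : ∀ x ∈ K, t * x * t ∈ K) : t ∈ N[K] := by
  have ti : t⁻¹ = t := inv_eq_of_mul_eq_one_right tt
  rw [mem_normalizer_iff, ti]
  refine fun x => ⟨h x, fun hx => ?_⟩
  have := h _ hx
  rwa [show t * (t * x * t) * t = (t * t) * x * (t * t) by group, tt, one_mul, mul_one] at this

theorem cv2a : Cv2aS.{u} := by
  intro dih prk prt step X _ e σ τ θ D fa fb fc G _ _ S ψ T
  have fn := S.fn
  have tt := fn.tt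
  have ti : S.t⁻¹ = S.t := inv_eq_of_mul_eq_one_right tt
  have hV : S.V = (V0.map e).map ψ := by
    rw [map_map, show ψ.comp e = S.φ from MonoidHom.ext T.he]
  have mm : ∀ {K : Subgroup X} {x : X}, ψ x ∈ K.map ψ ↔ x ∈ K := mem_map_iff_mem T.inj
  have mV : ∀ {x : X}, ψ x ∈ S.V ↔ x ∈ V0.map e := by rw [hV]; exact mm
  have RX : ∀ x, ψ x ∈ S.R := fun x => T.rg ▸ ⟨x, rfl⟩
  have cV : ∀ {x : X}, ψ x ∈ C[S.V] ↔ x ∈ C[V0.map e] := fun {x} => by
    rw [hV, mem_centralizer_iff, mem_centralizer_iff]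
    constructor
    · intro h y hy
      exact T.inj (by rw [map_mul, map_mul]; exact h _ ⟨y, hy, rfl⟩)
    · rintro h _ ⟨y, hy, rfl⟩
      rw [← map_mul, ← map_mul, h y hy]
  have two : ∀ {x : X}, Two (ψ x) → Two x := fun ⟨n, h⟩ =>
    ⟨n, T.inj (by rw [map_pow, h, map_one])⟩
  have tV : S.t ∈ C[S.V] := by
    rintro _ ⟨m, -, rfl⟩
    exact (S.tL m).symm
  have τV : ∀ v ∈ V0.map e, τ v = v := fun v hv => T.inj (by
    rw [← T.ht, ← (mem_centralizer_iff.1 tV _ (mV.2 hv)), mul_assoc, tt, mul_one])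
  have nτ : ∀ K : Subgroup X, (∀ x ∈ K, τ x ∈ K) → S.t ∈ N[K.map ψ] := fun K h =>
    norm_of tt (by
      rintro _ ⟨x, hx, rfl⟩
      rw [T.ht]; exact mm.2 (h x hx))
  have pA : ∀ i, D.p i ∈ As D := fun i => subset_closure (Or.inl ⟨i, rfl⟩)
  have qA : ∀ i, D.q i ∈ As D := fun i => subset_closure (Or.inr ⟨i, rfl⟩)
  have pQ : ∀ i, D.p i ∈ Qs e D i := fun i => mem_sup_left (subset_closure (by simp))
  have qQ : ∀ i, D.q i ∈ Qs e D i := fun i => mem_sup_left (subset_closure (by simp))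
  have QA : ∀ i, Qs e D i ≤ As D := fun i => sup_le ((closure_le _).2 (by
    rintro x (rfl | rfl); exacts [pA i, qA i])) fa.VA
  have tA : S.t ∈ N[(As D).map ψ] := nτ _ fun x hx =>
    ((closure_le ((As D).comap τ.toMonoidHom)).2 (by
      rintro x (⟨i, rfl⟩ | ⟨i, rfl⟩)
      · show τ _ ∈ As D
        rw [fa.τp]; exact inv_mem (pA i)
      · show τ _ ∈ As D
        rw [fa.τq]; exact mul_mem (pA i) (qA i))) hx
  have tQ : ∀ i, S.t ∈ N[(Qs e D i).map ψ] := fun i => nτ _ fun x hx =>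
    (sup_le (c := (Qs e D i).comap τ.toMonoidHom) ((closure_le _).2 (by
      rintro x (rfl | rfl)
      · show τ _ ∈ Qs e D i
        rw [fa.τp]; exact inv_mem (pQ i)
      · show τ _ ∈ Qs e D i
        rw [fa.τq]; exact mul_mem (pQ i) (qQ i))) fun v hv => by
      show τ _ ∈ Qs e D i
      rw [τV v hv]; exact mem_sup_right hv) hx
  have tN : S.t ∈ N[(S.X ⊓ C[S.V] : Subgroup G)] := norm_of tt fun x hx =>
    mem_inf.2 ⟨by simpa only [ti] using S.Xn.conj_mem x hx.1 S.t, mul_mem (mul_mem tV hx.2) tV⟩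
  have AN : (As D).map ψ ≤ S.X ⊓ C[S.V] := by
    rintro _ ⟨x, hx, rfl⟩
    exact ⟨fn.le (RX x), cV.2 (fa.AV hx)⟩
  have inA : ∀ y ∈ C[S.V], y ∈ S.R → Two y → y ∈ (As D).map ψ := fun y h1 h2 h3 => by
    rw [← T.rg] at h2
    obtain ⟨x, rfl⟩ := h2
    exact mm.2 (fc.two x (cV.1 h1) (two h3))
  have syl : IsSylowIn 2 ((As D).map ψ) (S.X ⊓ C[S.V]) :=
    (dih G S.R S.X S.t fn _ inf_le_left tN).1 _ tA
      ⟨le_inf AN (by rintro _ ⟨x, -, rfl⟩; exact RX x), fa.A2.map ψ, fun P hP hp hle =>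
        le_antisymm (fun y hy => inA y (hP hy).1.2 (hP hy).2 (by
          obtain ⟨n, hn⟩ := hp ⟨y, hy⟩
          exact ⟨n, congrArg Subtype.val hn⟩)) hle⟩
  refine ⟨syl, fun i => ?_⟩
  have VA : S.V ≤ (As D).map ψ := hV ▸ map_mono fa.VA
  have VQ : ∀ i, S.V ≤ (Qs e D i).map ψ := fun i => hV ▸ map_mono le_sup_right
  have AH : (As D).map ψ ≤ C[S.V] := AN.trans inf_le_right
  have QH : ∀ i, (Qs e D i).map ψ ≤ C[S.V] := fun i => (map_mono (QA i)).trans AH
  have VN : S.V ≤ S.X ⊓ C[S.V] := VA.trans AN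
  haveI : (S.V.subgroupOf C[S.V]).Normal := ⟨fun v hv h => by
    rw [mem_subgroupOf] at hv ⊢
    have := mem_centralizer_iff.1 h.2 _ hv
    simp only [coe_mul, coe_inv]
    rw [← this, mul_inv_cancel_right]; exact hv⟩
  have V2 : ∀ v ∈ S.V, v * v = 1 := by
    rintro _ ⟨m, hm, rfl⟩
    rw [← map_mul, sq_V0 hm, map_one]
  have Vp : IsPGroup 2 S.V := (fa.A2.map ψ).to_le VA
  have c4 : Nat.card S.V = 4 := by rw [card_map_of_injective S.inj, card_V0]
  let k : Fin 3 → C[S.V] := fun i => ⟨ψ (D.κ i), cV.2 (fb.κV i)⟩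
  let t : C[S.V] := ⟨S.t, tV⟩
  have nm : ∀ {K : Subgroup X} {x : X}, x ∈ N[K] → ψ x ∈ N[K.map ψ] := fun {K x} h =>
    le_normalizer_map ψ ⟨x, h, rfl⟩
  have P : PrD (br C[S.V] S.V (S.X ⊓ C[S.V])) (br C[S.V] S.V ((As D).map ψ)) ⊥ Finset.univ
      (fun i => br C[S.V] S.V ((Qs e D i).map ψ)) (fun i => pr C[S.V] S.V (k i))
      (pr C[S.V] S.V t) :=
    { syl := syl_br Vp VA inf_le_right syl
      el := fun x hx => by
        obtain ⟨x, rfl⟩ := pr_surj x
        obtain ⟨y, hy, e⟩ := (mem_br VA).1 hx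
        rw [← map_mul, pr_one, coe_mul, ← e, ← map_mul, mV]
        exact fa.sq y hy
      UA := bot_le
      QA := fun i _ => map_mono (comap_mono (map_mono (QA i)))
      c4 := fun i _ => by
        have := card_br (VQ i) (QH i)
        rw [card_map_of_injective T.inj, fa.c16, c4] at this
        omega
      gen := by
        intro x hx
        obtain ⟨x, rfl⟩ := pr_surj x
        obtain ⟨y, hy, e1⟩ := (mem_br VA).1 hx
        refine mem_sup_right ?_
        have key : ∀ y ∈ As D, ∀ x : C[S.V], ψ y = x → pr C[S.V] S.V x ∈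
            ⨆ i ∈ (Finset.univ : Finset (Fin 3)), br C[S.V] S.V ((Qs e D i).map ψ) := by
          intro y hy
          induction hy using closure_induction with
          | mem y h =>
            intro x e1
            rcases h with ⟨i, rfl⟩ | ⟨i, rfl⟩
            · exact mem_iSup_of_mem i (mem_iSup_of_mem (Finset.mem_univ i)
                ((mem_br (VQ i)).2 (e1 ▸ mm.2 (pQ i))))
            · exact mem_iSup_of_mem i (mem_iSup_of_mem (Finset.mem_univ i)
                ((mem_br (VQ i)).2 (e1 ▸ mm.2 (qQ i))))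
          | one =>
            intro x e1
            rw [show x = 1 from Subtype.ext (e1.symm.trans (map_one ψ)), map_one]
            exact one_mem _
          | mul a b ha hb h1 h2 =>
            intro x e1
            rw [show x = ⟨ψ a, AH (mm.2 ha)⟩ * ⟨ψ b, AH (mm.2 hb)⟩ from
              Subtype.ext (e1.symm.trans (map_mul ψ a b)), map_mul]
            exact mul_mem (h1 _ rfl) (h2 _ rfl)
          | inv a ha h1 =>
            intro x e1
            rw [show x = ⟨ψ a, AH (mm.2 ha)⟩⁻¹ from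
              Subtype.ext (e1.symm.trans (map_inv ψ a)), map_inv]
            exact inv_mem (h1 _ rfl)
        exact key y hy x e1
      nQ := fun n _ hn i _ => by
        obtain ⟨n, rfl⟩ := pr_surj n
        rw [norm_br VA AH] at hn
        rw [norm_br (VQ i) (QH i)]
        have key : ∀ g : G, g ∈ C[S.V] → g ∈ N[(As D).map ψ] → ∀ y ∈ (Qs e D i).map ψ,
            g * y * g⁻¹ ∈ (Qs e D i).map ψ := by
          rintro g g1 g2 _ ⟨y, hy, rfl⟩
          obtain ⟨y', hy', e1⟩ := (mem_normalizer_iff.1 g2 _).1 (mm.2 (QA i hy))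
          rw [← e1, mm, ← fa.chr i y' hy']
          intro x hx
          obtain ⟨x', hx', e2⟩ := (mem_normalizer_iff.1 (inv_mem g2) _).1 (mm.2 hx)
          have e3 : ψ (y' * x * y'⁻¹ * x⁻¹) = g * ψ (y * x' * y⁻¹ * x'⁻¹) * g⁻¹ := by
            simp only [map_mul, map_inv, e1, e2]; group
          rcases (fa.chr i y (QA i hy)).2 hy x' hx' with c | c
          · left
            exact T.inj (by rw [e3, c, map_one]; group)
          · right
            refine T.inj ?_
            rw [e3, c, ← mem_centralizer_iff.1 g1 _ (mV.2 (fa.zV i))]; group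
        rw [mem_normalizer_iff]
        refine fun y => ⟨key _ n.2 hn y, fun hy => ?_⟩
        simpa [mul_assoc] using key _ (inv_mem n.2) (inv_mem hn) _ hy
      cU := fun n _ _ x hx => by
        rw [mem_bot.1 hx, one_mul, mul_one]
      κN := fun i _ => (mem_br VN).2 ⟨fn.le (RX _), (k i).2⟩
      κA := fun i _ => (norm_br VA AH).2 (nm (fb.κA i))
      κ3 := fun i _ x hx c => by
        obtain ⟨x, rfl⟩ := pr_surj x
        obtain ⟨y, hy, e1⟩ := (mem_br (VQ i)).1 hx
        rw [pr_one, ← e1, mV]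
        refine fb.κ3 i y hy (mV.1 ?_)
        have : pr C[S.V] S.V (k i * x * (k i)⁻¹ * x⁻¹) = 1 := by
          rw [map_mul, map_mul, map_mul, c, map_inv, map_inv]; group
        rw [pr_one] at this
        simp only [map_mul, map_inv, e1]
        exact this
      κc := fun i _ j _ ij x hx => by
        obtain ⟨x, rfl⟩ := pr_surj x
        obtain ⟨y, hy, e1⟩ := (mem_br (VQ j)).1 hx
        rw [← map_mul, ← map_mul]
        congr 1
        refine Subtype.ext ?_
        show (x : G) * ψ _ = ψ _ * x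
        rw [← e1, ← map_mul, ← map_mul, fb.κc i j ij y hy]
      ττ := by rw [← map_mul, show t * t = 1 from Subtype.ext tt, map_one]
      τN := (norm_br VN inf_le_right).2 tN
      τn := fun h => fn.tF ((mem_br VN).1 h).1
      τA := (norm_br VA AH).2 tA
      τQ := fun i _ => ⟨(norm_br (VQ i) (QH i)).2 (tQ i), fun h => by
        have := mem_centralizer_iff.1 h (pr _ _ ⟨ψ (D.q i), QH i (mm.2 (qQ i))⟩)
          ((mem_br (VQ i)).2 (mm.2 (qQ i)))
        have h2 : pr C[S.V] S.V (t * ⟨ψ (D.q i), QH i (mm.2 (qQ i))⟩ * t *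
            ⟨ψ (D.q i), QH i (mm.2 (qQ i))⟩⁻¹) = 1 := by
          have e2 : pr C[S.V] S.V t * pr C[S.V] S.V t = 1 := by
            rw [← map_mul, show t * t = 1 from Subtype.ext tt, map_one]
          rw [map_mul, map_mul, map_mul, ← this, map_inv,
            mul_assoc _ (pr C[S.V] S.V t) (pr C[S.V] S.V t), e2]; group
        rw [pr_one] at h2
        have h3 : S.t * ψ (D.q i) * S.t * (ψ (D.q i))⁻¹ ∈ S.V := h2
        rw [T.ht, fa.τq, map_mul, mul_inv_cancel_right, mV] at h3
        exact fa.pV i h3⟩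
      H := fun y hy y2 yt => by
        obtain ⟨y, rfl⟩ := pr_surj y
        rw [mem_br VN] at hy
        rw [mem_br VA]
        rw [← map_mul, pr_one] at y2
        have h2 : pr C[S.V] S.V (y * t * y⁻¹ * t⁻¹) = 1 := by
          rw [map_mul, map_mul, map_mul, yt, map_inv, map_inv]; group
        rw [pr_one] at h2
        have h3 : (y : G) * S.t * (y : G)⁻¹ * S.t⁻¹ ∈ S.V := h2
        have VR : S.V ≤ S.R := by
          rw [hV]; rintro _ ⟨x, -, rfl⟩; exact RX x
        have y4 : Two (y : G) := ⟨2, by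
          rw [show 2 ^ 2 = 2 + 2 by rfl, pow_add, pow_two]; exact V2 _ y2⟩
        exact inA _ hy.2 (fn.two _ (fn.uf _ hy.1 _ (mem_sup_left (VR h3)) (by group)) y4) y4 }
  intro n hn
  exact (norm_br (VQ i) (QH i) (h := ⟨n, hn.2⟩)).1
    (prk prt step _ _ _ _ _ _ _ _ _ P i (Finset.mem_univ i) ((mem_br VN).2 hn))

end Cfsg.Agent.H63.Cv2a
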