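import Cfsg.Agent.H63.GvDefs

/-! Project CY, route GV: piece O2B. -/

set_option autoImplicit false

namespace Cfsg.Agent.H63.GvO2b

open Subgroup MulAction Cfsg.Agent.H11.Cy Cfsg.Agent.H45.Iv Cfsg.Agent.H63.Gv
open scoped commutatorElement

section
variable {G : Type} [Group G]

/-- class two over an elementary central subgroup -/
structure C2 (T K : Subgroup G) : Prop where
  cen : ∀ k ∈ K, ∀ t ∈ T, k * t = t * k
  el : ∀ k ∈ K, k * k = 1
  le : K ≤ T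
  com : ∀ s ∈ T, ∀ t ∈ T, s * t * s⁻¹ * t⁻¹ ∈ K

theorem C2.sq_mod {T K : Subgroup G} (h : C2 T K) {u k : G} (hu : u ∈ T) (hk : k ∈ K) :
    (k * u) * (k * u) = u * u := by
  calc (k * u) * (k * u) = k * (u * k) * u := by group
    _ = (k * k) * (u * u) := by rw [← h.cen k hk u hu]; group
    _ = u * u := by rw [h.el k hk, one_mul]

theorem C2.key {T K : Subgroup G} (h : C2 T K) {m u v : G} (hm : m ∈ T) (hu : u ∈ T) (hv : v ∈ T)
    (e1 : (u * m) * (u * m) = m * m) (e2 : (v * m) * (v * m) = m * m)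
    (e3 : (u * v * m) * (u * v * m) = m * m) : u * v = v * u := by
  obtain ⟨k1, hk1, q1⟩ : ∃ k ∈ K, m * u = k * u * m := ⟨_, h.com m hm u hu, by group⟩
  obtain ⟨k2, hk2, q2⟩ : ∃ k ∈ K, m * v = k * v * m := ⟨_, h.com m hm v hv, by group⟩
  have c1 := h.cen k1 hk1
  have c2 := h.cen k2 hk2
  have f1 : k1 * (u * u) = 1 := by
    apply mul_right_cancel (b := m * m)
    calc k1 * (u * u) * (m * m) = (k1 * u) * u * m * m := by group
      _ = u * (k1 * u * m) * m := by conv_lhs => rw [c1 u hu]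
                                     group
      _ = 1 * (m * m) := by rw [← q1, one_mul, ← e1]; group
  have f2 : k2 * (v * v) = 1 := by
    apply mul_right_cancel (b := m * m)
    calc k2 * (v * v) * (m * m) = (k2 * v) * v * m * m := by group
      _ = v * (k2 * v * m) * m := by conv_lhs => rw [c2 v hv]
                                     group
      _ = 1 * (m * m) := by rw [← q2, one_mul, ← e2]; group
  have f3 : k1 * k2 * (u * v * u * v) = 1 := by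
    apply mul_right_cancel (b := m * m)
    calc k1 * k2 * (u * v * u * v) * (m * m) = k1 * (k2 * (u * v * u)) * v * m * m := by group
      _ = (k1 * (u * v)) * u * (k2 * v * m) * m := by
        rw [c2 _ (T.mul_mem (T.mul_mem hu hv) hu)]; group
      _ = u * v * (k1 * u * m) * v * m := by rw [← q2, c1 _ (T.mul_mem hu hv)]; group
      _ = 1 * (m * m) := by rw [← q1, one_mul, ← e3]; group
  have f4 : k1 * k2 * (u * u * v * v) = 1 := by
    calc k1 * k2 * (u * u * v * v) = k1 * (k2 * (u * u)) * (v * v) := by group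
      _ = (k1 * (u * u)) * (k2 * (v * v)) := by rw [c2 _ (T.mul_mem hu hu)]; group
      _ = 1 := by rw [f1, f2, one_mul]
  have f5 : u * v * u * v = u * u * v * v := mul_left_cancel (f3.trans f4.symm)
  have f6 : u * (v * u) = u * (u * v) := by
    have := mul_right_cancel f5
    simpa [mul_assoc] using this
  exact (mul_left_cancel f6).symm

variable {Ω : Type} [MulAction G Ω] {p : ℕ} {A : Ω → Subgroup G}

theorem c2_of (c : Cx p A) {Ψ : Set Ω} (s : Sub A Ψ) (g : Good A Ψ) {d : Ω} (hd : d ∈ Ψ) :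
    C2 (Ts A Ψ) (Ts A Ψ ⊓ Cs A Ψ) := by
  have tle : Ts A Ψ ≤ Ms A Ψ := by
    unfold Ts
    rw [Subgroup.commutator_le]
    intro a ha b hb
    exact (Ms A Ψ).mul_mem ((Ms A Ψ).mul_mem ((Ms A Ψ).mul_mem ha hb) ((Ms A Ψ).inv_mem ha))
      ((Ms A Ψ).inv_mem hb)
  refine ⟨fun k hk t ht => (mem_centralizer_iff.1 hk.2 t (tle ht)).symm, c.gb Ψ s g ⟨d, hd⟩,
    inf_le_left, fun a ha b hb => ⟨?_, (c.ga Ψ s g d hd).com a ha b hb⟩⟩
  exact (Ts A Ψ).mul_mem ((Ts A Ψ).mul_mem ((Ts A Ψ).mul_mem ha hb) ((Ts A Ψ).inv_mem ha))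
      ((Ts A Ψ).inv_mem hb)

end

theorem o2b : O2bStmt := by
  intro G _ _ Ω _ _ p A h c ab P mb mk N hN ns x hx y hy hxy m hm r hr
  have k := c.sk
  have hP := mb.1
  have rM : ∀ u ∈ P, ∀ v ∈ P, ∀ s ∈ Rl A u v, s ∈ Ms A P := fun u hu v hv s hs =>
    mk.tle P ((k.fle P u hu v hv).2 hs)
  -- commutators of `R` with `M`
  have cm : ∀ u ∈ P, ∀ v ∈ P, u ≠ v → ∀ s ∈ Rl A u v, ∀ n ∈ ⁅N, A u⁆, s * n * s⁻¹ * n⁻¹ ∈ N ∧
      (∀ w ∈ Ln A u v, s * n * s⁻¹ * n⁻¹ ∈ centralizer (A w : Set G)) ∧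
      (s ∈ Zl A u v → s * n * s⁻¹ * n⁻¹ = 1) := by
    intro u hu v hv huv s hs n hn
    obtain ⟨Ψ, s1, g1, u1, v1, -, l1⟩ := ns.sub u hu v hv huv
    refine ⟨N.mul_mem (hN.2.2 s (rM u hu v hv s hs) n (ns.le u hu hn)) (N.inv_mem (ns.le u hu hn)),
      fun w hw => ?_, fun hz => ?_⟩
    · exact (k.cs Ψ _).1 ((c.ga Ψ s1 g1 u u1).com s ((k.fle Ψ u u1 v v1).2 hs) n (l1 u u1 hn)) w
        (s1 u u1 v v1 huv hw)
    · have := mem_centralizer_iff.1 (k.zc Ψ g1 u u1 v v1 huv hz) n (mk.tle Ψ (l1 u u1 hn))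
      rw [← this]; group
  obtain ⟨cN, cL, cZ⟩ := cm x hx y hy hxy r hr m hm
  rw [commutatorElement_def]
  by_cases rz : r ∈ Zl A x y
  · rw [cZ rz]; exact one_mem _
  obtain ⟨q, hq⟩ : ∃ q, q = r * m * r⁻¹ * m⁻¹ := ⟨_, rfl⟩
  rw [← hq] at cN cL ⊢
  have rP := rM x hx y hy r hr
  have lsub : ∀ u v, u ≠ v → Sub A (Ln A u v) := fun u v huv z hz w hw hzw =>
    (k.sp u v huv z hz w hw hzw).2.2.le
  have lmov : ∀ u v, u ≠ v → ∀ s ∈ Rl A u v, s • u ∈ Ln A u v := fun u v huv s hs =>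
    k.inv _ (lsub u v huv) s (mk.tle _ ((k.fle _ u (k.ln u v).1 v (k.ln u v).2).2 hs)) u (k.ln u v).1
  have bL : r • x ∈ Ln A x y := lmov x y hxy r hr
  have bx : r • x ≠ x := fun e => rz ((c.ls x y hxy).2.1.stab r hr x (k.ln x y).1 e)
  have bP : r • x ∈ P := k.inv P hP r rP x hx
  have m'M : r * m * r⁻¹ ∈ ⁅N, A (r • x)⁆ := ns.cj r rP x hx m hm
  have qx : q ∈ centralizer (A x : Set G) := cL x (k.ln x y).1
  have cfix : ∀ (g : G) w, g ∈ centralizer (A w : Set G) → g • w = w := fun g w hg =>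
    (c.ep.nA w g).1 (centralizer_le_normalizer _ hg)
  have qxx := cfix q x qx
  rw [k.cs]
  intro e he
  by_cases eL : e ∈ Ln A x y
  · exact cL e eL
  have xe : x ≠ e := fun t => eL (t ▸ (k.ln x y).1)
  obtain ⟨Ψ, s1, g1, x1, e1, i1, l1⟩ := ns.sub x hx e he xe
  have C := c2_of c s1 g1 x1
  have mT : m ∈ Ts A Ψ := l1 x x1 hm
  have nq := k.nrm Ψ q (i1 q cN)
  have RT : Rl A x e ≤ Ts A Ψ := (k.fle Ψ x x1 e e1).2
  have kT : ∀ t ∈ Rl A x e, q * t * q⁻¹ * t⁻¹ ∈ Ts A Ψ := fun t ht =>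
    (Ts A Ψ).mul_mem (nq.2.1 t (RT ht)) ((Ts A Ψ).inv_mem (RT ht))
  have iso : ∀ t ∈ Rl A x e, (q * t * q⁻¹ * t⁻¹ * m) * (q * t * q⁻¹ * t⁻¹ * m) = m * m := by
    intro t ht
    by_cases tz : t ∈ Zl A x e
    · have t1 : t ∈ Cs A Ψ := k.zc Ψ g1 x x1 e e1 xe tz
      exact C.sq_mod mT ⟨kT t ht, (Cs A Ψ).mul_mem (nq.2.2 t t1) ((Cs A Ψ).inv_mem t1)⟩
    have tP := rM x hx e he t ht
    have fL : t • x ∈ Ln A x e := lmov x e xe t ht
    have fx : t • x ≠ x := fun e' => tz ((c.ls x e xe).2.1.stab t ht x (k.ln x e).1 e')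
    have fP : t • x ∈ P := k.inv P hP t tP x hx
    have fΨ : t • x ∈ Ψ := s1 x x1 e e1 xe fL
    have bf : r • x ≠ t • x := by
      intro q'
      apply eL
      rw [← (k.sp x y hxy x (k.ln x y).1 _ bL bx.symm).2.2, q',
        (k.sp x e xe x (k.ln x e).1 _ fL fx.symm).2.2]
      exact (k.ln x e).2
    have stab := (c.ga Ψ s1 g1 _ fΨ).stab
    obtain ⟨ψ, hψ, c1, c1N, c1C, qe⟩ := ns.dec _ fP q cN
    have ψT := l1 _ fΨ hψ
    obtain ⟨s, hs, se⟩ := (c.ls _ _ bf).1.tr _ (k.ln (r • x) (t • x)).2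
    have sP := rM _ bP _ fP s hs
    obtain ⟨c3N, c3L, -⟩ := cm _ bP _ fP bf s hs _ m'M
    have c3C := c3L _ (k.ln (r • x) (t • x)).2
    obtain ⟨c2N, c2L, -⟩ := cm x hx e he xe t ht m hm
    have c2C := c2L _ fL
    have m1M : t * m * t⁻¹ ∈ ⁅N, A (t • x)⁆ := ns.cj t tP x hx m hm
    have m2M : s * (r * m * r⁻¹) * s⁻¹ ∈ ⁅N, A (t • x)⁆ := se ▸ ns.cj s sP _ bP _ m'M
    have c2K : t * m * t⁻¹ * m⁻¹ ∈ Ts A Ψ ⊓ Cs A Ψ := C.com t (RT ht) m mT
    generalize hc3 : s * (r * m * r⁻¹) * s⁻¹ * (r * m * r⁻¹)⁻¹ = c3 at c3N c3C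
    generalize hc2 : t * m * t⁻¹ * m⁻¹ = c2 at c2N c2C c2K
    have m2sq : (s * (r * m * r⁻¹) * s⁻¹) * (s * (r * m * r⁻¹) * s⁻¹) = m * m := by
      have := mem_centralizer_iff.1 (ns.sq x hx m hm) (s * r) ((Ms A P).mul_mem sP rP)
      calc _ = (s * r) * (m * m) * (s * r)⁻¹ := by group
        _ = m * m := by rw [this]; group
    generalize hm2 : s * (r * m * r⁻¹) * s⁻¹ = m2 at m2M m2sq hc3
    have e2 : m2 = c3 * q * m := by rw [← hc3, hq]; group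
    have e1' : t * m * t⁻¹ = c2 * m := by rw [← hc2]; group
    -- `κ = m2 (ψ m1)⁻¹`
    have w1 : ψ * (c1 * c2⁻¹) = (c1 * c2⁻¹) * ψ := ns.comm _ fP ψ hψ _
      (N.mul_mem c1N (N.inv_mem c2N)) (mul_mem c1C (inv_mem c2C))
    have e3 : m2 = (c3 * c1 * c2⁻¹) * (ψ * (c2 * m)) := by
      calc m2 = c3 * (ψ * (c1 * c2⁻¹)) * (c2 * m) := by rw [e2, qe]; group
        _ = _ := by rw [w1]; group
    have κT : c3 * c1 * c2⁻¹ ∈ Ts A Ψ := by
      have : c3 * c1 * c2⁻¹ = m2 * (ψ * (t * m * t⁻¹))⁻¹ := by rw [e3, e1']; group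
      rw [this]
      exact mul_mem (l1 _ fΨ m2M) (inv_mem (mul_mem ψT (l1 _ fΨ m1M)))
    have κK : c3 * c1 * c2⁻¹ ∈ Ts A Ψ ⊓ Cs A Ψ :=
      ⟨κT, stab _ κT (cfix _ _ (mul_mem (mul_mem c3C c1C) (inv_mem c2C)))⟩
    have dT : ψ * (q * t * q⁻¹ * t⁻¹)⁻¹ ∈ Ts A Ψ := mul_mem ψT (inv_mem (kT t ht))
    have dK : ψ * (q * t * q⁻¹ * t⁻¹)⁻¹ ∈ Ts A Ψ ⊓ Cs A Ψ := by
      have d0 : (q * t * q⁻¹ * t⁻¹)⁻¹ * ψ ∈ Ts A Ψ := mul_mem (inv_mem (kT t ht)) ψT
      have d1 : ((q * t * q⁻¹ * t⁻¹)⁻¹ * ψ) • t • x = t • x := by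
        have a1 : ψ • t • x = q • t • x := by
          conv_rhs => rw [qe, mul_smul, cfix c1 _ c1C]
        have a2 : (q * t * q⁻¹ * t⁻¹) • t • x = q • t • x := by
          have : q⁻¹ • x = x := by rw [inv_smul_eq_iff, qxx]
          rw [mul_smul, inv_smul_smul, mul_smul, this, mul_smul]
        rw [mul_smul, a1, ← a2, inv_smul_smul]
      have d2 : (q * t * q⁻¹ * t⁻¹)⁻¹ * ψ ∈ Ts A Ψ ⊓ Cs A Ψ := ⟨d0, stab _ d0 d1⟩
      have := C.cen _ d2 _ (kT t ht)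
      have e4 : ψ * (q * t * q⁻¹ * t⁻¹)⁻¹ = (q * t * q⁻¹ * t⁻¹)⁻¹ * ψ := by
        generalize q * t * q⁻¹ * t⁻¹ = κ at this
        calc ψ * κ⁻¹ = (κ * (κ⁻¹ * ψ)) * κ⁻¹ := by group
          _ = κ⁻¹ * ψ := by rw [← this]; group
      rw [e4]; exact d2
    have kt := kT t ht
    generalize q * t * q⁻¹ * t⁻¹ = κ at dK kt ⊢
    have e5 : m2 = (c3 * c1 * c2⁻¹ * (ψ * κ⁻¹) * c2) * (κ * m) := by
      rw [e3, mul_assoc _ c2, ← mul_assoc c2, C.cen c2 c2K κ kt]; group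
    rw [← m2sq, e5]
    exact (C.sq_mod (mul_mem kt mT) (mul_mem (mul_mem κK dK) c2K)).symm
  have cmm : ∀ t ∈ Rl A x e, ∀ s ∈ Rl A x e, (q * t * q⁻¹ * t⁻¹) * (q * s * q⁻¹ * s⁻¹) =
      (q * s * q⁻¹ * s⁻¹) * (q * t * q⁻¹ * t⁻¹) := by
    intro t ht s hs
    refine C.key mT (kT t ht) (kT s hs) (iso t ht) (iso s hs) ?_
    have i := iso (t * s) (mul_mem ht hs)
    have a := C.com t (RT ht) _ (kT s hs)
    have e6 : q * (t * s) * q⁻¹ * (t * s)⁻¹ * m = (t * (q * s * q⁻¹ * s⁻¹) * t⁻¹ * (q * s * q⁻¹ * s⁻¹)⁻¹) *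
        ((q * t * q⁻¹ * t⁻¹) * (q * s * q⁻¹ * s⁻¹) * m) := by
      have cc := C.cen _ a _ (kT t ht)
      generalize hκ : t * (q * s * q⁻¹ * s⁻¹) * t⁻¹ * (q * s * q⁻¹ * s⁻¹)⁻¹ = κ at cc
      calc _ = (q * t * q⁻¹ * t⁻¹) * κ * ((q * s * q⁻¹ * s⁻¹) * m) := by rw [← hκ]; group
        _ = _ := by rw [← cc]; group
    rw [e6, C.sq_mod (mul_mem (mul_mem (kT t ht) (kT s hs)) mT) a] at i
    exact i
  let E : Subgroup G := closure {g | ∃ t ∈ Rl A x e, g = q * t * q⁻¹ * t⁻¹}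
  have EN : E ≤ N := by
    rw [closure_le]
    rintro _ ⟨t, ht, rfl⟩
    have := hN.2.2 t (rM x hx e he t ht) _ (N.inv_mem cN)
    have e7 : q * t * q⁻¹ * t⁻¹ = q * (t * q⁻¹ * t⁻¹) := by group
    rw [SetLike.mem_coe, e7]; exact N.mul_mem cN this
  have Ec : ∀ u ∈ E, ∀ v ∈ E, u * v = v * u := by
    have h1 : E ≤ centralizer {g | ∃ t ∈ Rl A x e, g = q * t * q⁻¹ * t⁻¹} := by
      rw [closure_le]
      rintro _ ⟨t, ht, rfl⟩
      rw [SetLike.mem_coe, mem_centralizer_iff]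
      rintro _ ⟨s, hs, rfl⟩
      exact cmm s hs t ht
    intro u hu v hv
    have h2 : E ≤ centralizer {u} := by
      rw [closure_le]
      intro g hg
      rw [SetLike.mem_coe, mem_centralizer_iff]
      rintro _ rfl
      exact (mem_centralizer_iff.1 (h1 hu) g hg).symm
    exact mem_centralizer_iff.1 (h2 hv) u rfl
  have En : Nz A x E := by
    intro a ha s hs
    have qa : a * q = q * a := mem_centralizer_iff.1 qx a ha
    induction hs using closure_induction with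
    | mem g hg =>
      obtain ⟨t, ht, rfl⟩ := hg
      have at' : a * t * a⁻¹ ∈ Rl A x e := by
        have := (k.cj a x e t).2.1 ht
        rw [h.fix x a ha] at this
        have aL : a • e ∈ Ln A x e := k.inv _ (lsub x e xe) a
          ((k.fle _ x (k.ln x e).1 e (k.ln x e).2).1 (mem_sup_left ha)) e (k.ln x e).2
        have ne : x ≠ a • e := fun t => xe (smul_left_cancel a ((h.fix x a ha).trans t))
        rwa [(k.sp x e xe x (k.ln x e).1 _ aL ne).1] at this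
      refine subset_closure ⟨_, at', ?_⟩
      have : q = a * q * a⁻¹ := by rw [qa]; group
      conv_rhs => rw [this]
      group
    | one => simp
    | mul u v _ _ hu hv =>
      have : a * (u * v) * a⁻¹ = (a * u * a⁻¹) * (a * v * a⁻¹) := by group
      rw [this]; exact E.mul_mem hu hv
    | inv u _ hu =>
      have : a * u⁻¹ * a⁻¹ = (a * u * a⁻¹)⁻¹ := by group
      rw [this]; exact E.inv_mem hu
  obtain ⟨t, ht, te⟩ := (c.ls x e xe).1.tr e (k.ln x e).2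
  have k1 := ab x E (hN.1.to_le EN) Ec En _ (subset_closure ⟨t, ht, rfl⟩)
  have k2 := (c.ga Ψ s1 g1 x x1).stab _ (kT t ht) (cfix _ _ k1)
  have k3 := k.csfix Ψ _ k2 e e1
  have qe : q • e = e := by
    have : q⁻¹ • x = x := by rw [inv_smul_eq_iff, qxx]
    rw [← te, mul_smul, inv_smul_smul, mul_smul, this, mul_smul] at k3
    rw [← te]; exact k3
  have := c.ep.eps x e xe q ⟨qxx, qe⟩ qx
  exact centralizer_le (fun a ha => (mem_sup_right ha : a ∈ A x ⊔ A e)) this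

end Cfsg.Agent.H63.GvO2b
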