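import Mathlib
import Cfsg.Agent.H29.Klein
import Cfsg.Agent.H63.L3A8Core

/-!
# The set-up for the 3-local recognition of the alternating group of degree 8
-/

set_option autoImplicit false
set_option maxRecDepth 100000

namespace Cfsg.Agent.H63.L3A

open Equiv Equiv.Perm Subgroup

local notation "t5" => (dt 0 1 1 2 : A5)
local notation "r5" => (dt 0 1 3 4 : A5)

/-- The pairs of permutations with the same sign. -/
abbrev M0 : Subgroup (Perm (Fin 3) × Perm (Fin 5)) :=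
  ((sign.comp (MonoidHom.fst (Perm (Fin 3)) (Perm (Fin 5)))) *
    (sign.comp (MonoidHom.snd (Perm (Fin 3)) (Perm (Fin 5))))).ker

theorem mem_M0 {p : Perm (Fin 3) × Perm (Fin 5)} : p ∈ M0 ↔ sign p.1 * sign p.2 = 1 := Iff.rfl

/-- The alternating group of degree 5 inside. -/
def i5 : A5 →* M0 :=
  ((MonoidHom.inr _ _).comp (alternatingGroup (Fin 5)).subtype).codRestrict _ fun k =>
    mem_M0.2 (by simpa using mem_alternatingGroup.1 k.2)

/-- A pair of transpositions. -/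
def c0 : M0 := ⟨(swap 0 1, swap 0 1), mem_M0.2 (by decide)⟩

variable {G : Type*} [Group G]

theorem gen {ψ : M0 →* G} (hi : Function.Injective ψ) {z : G} (oz : orderOf z = 3)
    (hr : ψ.range = normalizer (zpowers z : Set G)) :
    (∀ k, Commute z (ψ (i5 k))) ∧ (∀ g, Commute g z → ∃ (i : ℤ) (k : A5), g = z ^ i * ψ (i5 k)) ∧
      ψ c0 * z * (ψ c0)⁻¹ = z⁻¹ := by
  obtain ⟨⟨⟨ρ, b⟩, hm⟩, rfl⟩ : z ∈ ψ.range := hr ▸ le_normalizer (mem_zpowers z)
  have m3 : (⟨(ρ, b), hm⟩ : M0) ^ 3 = 1 := hi (by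
    rw [map_pow, map_one]; exact orderOf_dvd_iff_pow_eq_one.1 oz.dvd)
  obtain rfl : b = 1 := by
    obtain ⟨i, hi'⟩ := (mem_normalizer_iff.1 (hr.le ⟨i5 (dt 0 1 1 2 * dt 2 3 3 4), rfl⟩) _).1
      (mem_zpowers _)
    have e := hi ((map_zpow ψ _ i).trans (hi'.trans (by rw [← map_inv, ← map_mul, ← map_mul])))
    refine (by decide +kernel : ∀ f : A5, f = dt 0 1 1 2 * dt 2 3 3 4 → ∀ b : Perm (Fin 5),
      b ^ 3 = 1 → (f * b * f.1⁻¹ = 1 ∨ f * b * f.1⁻¹ = b ∨ f * b * f.1⁻¹ = b⁻¹) → b = 1) _ rfl b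
      (congrArg (fun p : M0 => p.1.2) m3) ?_
    rcases zpow3 m3 i with a | a | a <;> rw [a] at e
    exacts [.inl (congrArg (fun p : M0 => p.1.2) e).symm,
      .inr (.inl (congrArg (fun p : M0 => p.1.2) e).symm),
      .inr (.inr (congrArg (fun p : M0 => p.1.2) e).symm)]
  have r3 : ρ ^ 3 = 1 := congrArg (fun p : M0 => p.1.1) m3
  have r1 : ρ ≠ 1 := by
    rintro rfl
    rw [show (⟨(1, 1), hm⟩ : M0) = 1 from rfl, map_one, orderOf_one] at oz
    exact absurd oz (by norm_num)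
  refine ⟨fun k => Commute.map (Subtype.ext (Prod.ext (by simp [i5]) (by simp [i5]))) ψ,
    fun g hg => ?_, ?_⟩
  · obtain ⟨⟨⟨a, b⟩, hn⟩, rfl⟩ : g ∈ ψ.range := hr.ge (centralizer_le_normalizer _ (by
      rintro _ ⟨i, rfl⟩
      exact (hg.zpow_right i).symm))
    obtain ⟨i, rfl⟩ := (by decide +kernel : ∀ ρ a : Perm (Fin 3), ρ ^ 3 = 1 → ρ ≠ 1 →
      a * ρ = ρ * a → ∃ i : Fin 3, a = ρ ^ i.1) ρ a r3 r1
      (congrArg (fun p : M0 => p.1.1) (hg.of_map hi).eq)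
    have hs : sign ρ = 1 := by simpa using mem_M0.1 hm
    refine ⟨i.1, ⟨b, mem_alternatingGroup.2 (by simpa [hs] using mem_M0.1 hn)⟩, ?_⟩
    rw [zpow_natCast, ← map_pow, ← map_mul]
    exact congrArg ψ (Subtype.ext (Prod.ext (by simp [i5]) (by simp [i5])))
  · rw [← map_inv, ← map_mul, ← map_mul, ← map_inv]
    exact congrArg ψ (Subtype.ext (Prod.ext ((by decide +kernel : ∀ ρ : Perm (Fin 3), ρ ^ 3 = 1 →
      swap 0 1 * ρ * (swap 0 1)⁻¹ = ρ⁻¹) ρ r3) (by simp [c0])))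

theorem card_cent_conj (g a : G) : Nat.card (centralizer {g * a * g⁻¹} : Subgroup G) =
    Nat.card (centralizer {a} : Subgroup G) :=
  (Nat.card_congr ((MulAut.conj g).toEquiv.subtypeEquiv fun _ => by
    simp only [mem_centralizer_singleton_iff]
    exact ⟨fun h => cmc h g, fun h => cmc' h⟩)).symm

theorem setup [Finite G] {D : Subgroup G} {z : G} {ψ : M0 →* G} (hi : Function.Injective ψ)
    (oz : orderOf z = 3) (hr : ψ.range = normalizer (zpowers z : Set G)) (hz : z ∈ D)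
    (hz' : ψ (i5 t5) ∈ D) (hD : ∀ g ∈ D, ∃ i j : ℤ, g = z ^ i * ψ (i5 t5) ^ j)
    (hcard : Nat.card D = 9) (hexp : ∀ a ∈ D, a ^ 3 = 1) (hC : centralizer (D : Set G) = D)
    (hN : Nat.card (normalizer (D : Set G)) = 72) {i0 : ℤ}
    (hy : Nat.card (centralizer {z ^ i0 * ψ (i5 t5)} : Subgroup G) = 18) :
    ∃ s, Dat (ψ.comp i5) z (ψ c0) s := by
  have : Fact (Nat.Prime 2) := ⟨by norm_num⟩
  obtain ⟨zc, cent, cz⟩ := gen hi oz hr
  have hi5 : Function.Injective (ψ.comp i5) :=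
    hi.comp fun a b e => Subtype.ext (congrArg (fun p : M0 => p.1.2) e)
  have ck : ∀ k, ψ c0 * ψ (i5 k) * (ψ c0)⁻¹ = ψ (i5 (cjs 0 1 k)) := fun k => by
    rw [← map_inv, ← map_mul, ← map_mul]
    exact congrArg ψ (Subtype.ext (Prod.ext (by simp [i5, c0]) rfl))
  have cc : ψ c0 * ψ c0 = 1 := by
    rw [← map_mul, show c0 * c0 = 1 from Subtype.ext (by simp [c0]), map_one]
  have f5 : orderOf (ψ (i5 (dt 0 1 1 2 * dt 2 3 3 4))) = 5 := by
    have : Fact (Nat.Prime 5) := ⟨by norm_num⟩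
    exact (orderOf_injective _ hi5 _).trans
      (orderOf_eq_prime (by decide +kernel) (by decide +kernel))
  have f6 := zc (dt 0 1 1 2 * dt 2 3 3 4)
  have zt := zc t5
  have rz := (zc r5).symm
  have rt : ψ (i5 r5) * ψ (i5 t5) * (ψ (i5 r5))⁻¹ = (ψ (i5 t5))⁻¹ := by
    simp only [← map_mul, ← map_inv]; congr 2; decide +kernel
  have ct : ψ c0 * ψ (i5 t5) * (ψ c0)⁻¹ = (ψ (i5 t5))⁻¹ := by
    rw [ck, ← map_inv, ← map_inv]; congr 2; decide +kernel
  have cr : Commute (ψ c0) (ψ (i5 r5)) :=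
    mul_inv_eq_iff_eq_mul.1 (by rw [ck]; congr 2; decide +kernel)
  have rr : ψ (i5 r5) * ψ (i5 r5) = 1 := by
    rw [← map_mul, ← map_mul, show r5 * r5 = 1 by decide +kernel, map_one, map_one]
  have r1 : ψ (i5 r5) ≠ 1 := fun e =>
    absurd (hi5 (e.trans (map_one _).symm)) (by decide +kernel)
  have t1 : ψ (i5 t5) ≠ 1 := fun e =>
    absurd (hi5 (e.trans (map_one _).symm)) (by decide +kernel)
  suffices ∃ s, s * s = 1 ∧ s * z * s⁻¹ = ψ (i5 t5) ∧ s * ψ (i5 r5) * s⁻¹ = ψ (i5 r5) * ψ c0 ∧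
      ∀ g, Commute g (z * ψ (i5 t5)) →
        ∃ i j : ℤ, g = z ^ i * ψ (i5 t5) ^ j ∨ g = z ^ i * ψ (i5 t5) ^ j * s from
    let ⟨s, h1, h2, h3, h4⟩ := this
    ⟨s, hi5, oz, zc, cent, cc, cz, ck, h1, h2, h3, h4⟩
  clear ck hi5 cent zc hr hi
  generalize ψ (i5 (dt 0 1 1 2 * dt 2 3 3 4)) = f at *
  generalize ψ (i5 t5) = t at *
  generalize ψ (i5 r5) = r at *
  generalize ψ c0 = c at *
  have sq : ∀ a ∈ D, a⁻¹ = a → a = 1 := fun a ha e => by
    have := hexp a ha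
    rwa [pow_three', mul_eq_one_iff_eq_inv.2 e.symm, one_mul] at this
  have z1 : z ≠ 1 := fun e => absurd oz (by rw [e, orderOf_one]; norm_num)
  have rz' : r * z * r⁻¹ = z := by rw [rz.eq, mul_inv_cancel_right]
  have rcz : r * c * z * (r * c)⁻¹ = z⁻¹ := by
    calc _ = r * (c * z * c⁻¹) * r⁻¹ := by group
      _ = _ := by rw [cz, ← conj_inv, rz']
  have rct : r * c * t * (r * c)⁻¹ = t := by
    calc _ = r * (c * t * c⁻¹) * r⁻¹ := by group
      _ = _ := by rw [ct, ← conj_inv, rt, inv_inv]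
  have act : ∀ (u : G) (i j : ℤ), u * (z ^ i * t ^ j) * u⁻¹ =
      (u * z * u⁻¹) ^ i * (u * t * u⁻¹) ^ j := fun u i j => by rw [conj_zpow, conj_zpow, conj_mul]
  have kp : H29.KPair r c := ⟨r1, fun e => z1 (sq z hz (by simpa [e] using cz.symm)),
    fun e => z1 (sq z hz (by rw [← cz, ← e, rz'])), rr, cc, cr.symm⟩
  have nrm : ∀ u : G, u * z * u⁻¹ ∈ D → u * t * u⁻¹ ∈ D → u ∈ normalizer (D : Set G) :=
    fun u h1 h2 => mem_normalizer_fintype fun d hd => by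
      obtain ⟨i, j, rfl⟩ := hD d hd
      rw [act]
      exact mul_mem (zpow_mem h1 i) (zpow_mem h2 j)
  have hU : H29.klein r c ≤ normalizer (D : Set G) := H29.klein_le_iff.2
    ⟨nrm r (rz'.symm ▸ hz) (rt ▸ inv_mem hz'), nrm c (cz ▸ inv_mem hz) (ct ▸ inv_mem hz')⟩
  have cU : Nat.card ((H29.klein r c).subgroupOf (normalizer (D : Set G))) = 2 ^ 2 :=
    (Nat.card_congr (subgroupOfEquivOfLe hU).toEquiv).trans kp.card
  obtain ⟨K, hK, hUK⟩ := Sylow.exists_subgroup_card_pow_succ (p := 2) (n := 2)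
    (by rw [hN]; norm_num) cU
  have hn : (((H29.klein r c).subgroupOf (normalizer (D : Set G))).subgroupOf K).Normal :=
    normal_of_index_eq_two (by
      have := (((H29.klein r c).subgroupOf (normalizer (D : Set G))).subgroupOf K).index_mul_card
      rw [Nat.card_congr (subgroupOfEquivOfLe hUK).toEquiv, cU, hK] at this
      omega)
  obtain ⟨s1, s1K, s1U⟩ : ∃ s1 ∈ K, s1 ∉ (H29.klein r c).subgroupOf (normalizer (D : Set G)) := by
    by_contra! h
    have := card_le_of_le (show K ≤ _ from h)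
    omega
  have sU : ∀ u ∈ H29.klein r c, s1 * u * (s1 : G)⁻¹ ∈ H29.klein r c := fun u hu =>
    hn.conj_mem ⟨⟨u, hU hu⟩, hUK hu⟩ hu ⟨s1, s1K⟩
  have fai : ∀ k ∈ K, (k : G) * z * (k : G)⁻¹ = z → (k : G) * t * (k : G)⁻¹ = t → (k : G) = 1 :=
    fun k hk h1 h2 => by
    have a1 := hexp k (hC.le fun d hd => by
      obtain ⟨i, j, rfl⟩ := hD d hd
      refine (mul_inv_eq_iff_eq_mul.1 ?_).symm
      rw [act, h1, h2])
    have a2 : (k : G) ^ 8 = 1 := congrArg (fun a : K => (a.1 : G)) (show (⟨k, hk⟩ : K) ^ 8 = 1 from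
      (show 2 ^ (2 + 1) = 8 from rfl) ▸ hK ▸ pow_card_eq_one')
    rw [← pow_one (k : G), show 1 = Nat.gcd 3 8 from rfl, pow_gcd_eq_one.2 ⟨a1, a2⟩]
  have fix : ∀ u ∈ H29.klein r c, u ≠ 1 → ∀ w ∈ D, w ≠ 1 → u * w * u⁻¹ = w →
      (u = r ∧ (w = z ∨ w = z⁻¹)) ∨ (u = r * c ∧ (w = t ∨ w = t⁻¹)) := fun u hu u1 w hw w1 e => by
    obtain ⟨i, j, rfl⟩ := hD w hw
    rw [act] at e
    rcases kp.mem_klein.1 hu with rfl | rfl | rfl | rfl
    · exact absurd rfl u1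
    · rw [rz', rt, mul_right_inj, inv_zpow] at e
      rw [sq _ (zpow_mem hz' j) e, mul_one] at w1 ⊢
      exact .inl ⟨rfl, (zpow3 (hexp z hz) i).resolve_left w1⟩
    · rw [cz, ct, inv_zpow, inv_zpow, ← (zt.zpow_zpow i j).mul_inv] at e
      exact absurd (sq _ hw e) w1
    · rw [rcz, rct, mul_left_inj, inv_zpow] at e
      rw [sq _ (zpow_mem hz i) e, one_mul] at w1 ⊢
      exact .inr ⟨rfl, (zpow3 (hexp t hz') j).resolve_left w1⟩
  have sgn : ∀ a b, (a = z ∨ a = z⁻¹) → (b = t ∨ b = t⁻¹) →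
      ∃ u ∈ H29.klein r c, u * a * u⁻¹ = z ∧ u * b * u⁻¹ = t := by
    rintro a b (rfl | rfl) (rfl | rfl)
    exacts [⟨1, one_mem _, by simp, by simp⟩,
      ⟨r, H29.left_mem_klein _ _, rz', by rw [← conj_inv, rt, inv_inv]⟩,
      ⟨r * c, kp.mem_klein.2 (by simp), by rw [← conj_inv, rcz, inv_inv], rct⟩,
      ⟨c, H29.right_mem_klein _ _, by rw [← conj_inv, cz, inv_inv], by rw [← conj_inv, ct, inv_inv]⟩]
  have cj2 : ∀ u a w : G, a * w * a⁻¹ = w → u * a * u⁻¹ * (u * w * u⁻¹) * (u * a * u⁻¹)⁻¹ =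
      u * w * u⁻¹ := fun u a w e => by rw [conj_inv, conj_mul, conj_mul, e]
  have cj3 : ∀ u a w : G, u * a * w * (u * a)⁻¹ = u * (a * w * a⁻¹) * u⁻¹ := fun u a w => by group
  obtain ⟨s, sK, s2, s3, s4⟩ : ∃ s ∈ K, (s : G) * z * (s : G)⁻¹ = t ∧ (s : G) * t * (s : G)⁻¹ = z ∧
      (s : G) * r * (s : G)⁻¹ = r * c := by
    rcases fix _ (sU r (H29.left_mem_klein _ _)) (by simpa using r1) _
      ((mem_normalizer_iff.1 s1.2 z).1 hz) (by simpa using z1) (cj2 _ _ _ rz') with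
      ⟨a1, a2⟩ | ⟨a1, a2⟩ <;>
    rcases fix _ (sU (r * c) (kp.mem_klein.2 (by simp))) (by simpa using kp.ab1) _
      ((mem_normalizer_iff.1 s1.2 t).1 hz') (by simpa using t1) (cj2 _ _ _ rct) with
      ⟨b1, b2⟩ | ⟨b1, b2⟩
    · exact absurd (by simpa using b1.trans a1.symm) kp.b1
    · obtain ⟨u, hu, e1, e2⟩ := sgn _ _ a2 b2
      have := fai (⟨u, hU hu⟩ * s1) (mul_mem (hUK hu) s1K) ((cj3 _ _ _).trans e1)
        ((cj3 _ _ _).trans e2)
      exact absurd (show (s1 : G) ∈ H29.klein r c from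
        eq_inv_of_mul_eq_one_right this ▸ inv_mem hu) s1U
    · obtain ⟨u, hu, e1, e2⟩ := sgn _ _ b2 a2
      refine ⟨⟨u, hU hu⟩ * s1, mul_mem (hUK hu) s1K, (cj3 _ _ _).trans e2, (cj3 _ _ _).trans e1,
        (cj3 _ _ _).trans ?_⟩
      rw [a1]
      refine mul_inv_eq_iff_eq_mul.2 ?_
      rcases kp.mem_klein.1 hu with rfl | rfl | rfl | rfl
      exacts [by simp, by rw [kp.aab, kp.aba], by rw [kp.bab, kp.abb], rfl]
    · exact absurd (by simpa using b1.trans a1.symm) kp.b1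
  have ss : (s : G) * s = 1 := fai (s * s) (mul_mem sK sK) ((cj3 _ _ _).trans (by rw [s2, s3]))
    ((cj3 _ _ _).trans (by rw [s3, s2]))
  have c18 : Nat.card (centralizer {z * t} : Subgroup G) = 18 := by
    rcases zpow3 (hexp z hz) i0 with e | e | e <;> rw [e] at hy
    · rw [one_mul, ← s2, card_cent_conj] at hy
      have := orderOf_dvd_natCard (⟨f, mem_centralizer_singleton_iff.2 f6.symm⟩ : centralizer {z})
      rw [Subgroup.orderOf_mk, f5, hy] at this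
      omega
    · exact hy
    · rwa [← rcz, ← rct, conj_mul, card_cent_conj] at hy
  have hle : D ≤ centralizer {z * t} := fun d hd =>
    mem_centralizer_singleton_iff.2 ((hC.ge (mul_mem hz hz')) d hd)
  have i2 : (D.subgroupOf (centralizer {z * t})).index = 2 := by
    have := (D.subgroupOf (centralizer {z * t})).index_mul_card
    rw [Nat.card_congr (subgroupOfEquivOfLe hle).toEquiv, hcard, c18] at this
    omega
  have sD : (s : G) ∉ D := fun h => kp.b1 (by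
    simpa [sq _ h (inv_eq_of_mul_eq_one_right ss)] using s4)
  refine ⟨s, ss, s2, s4, fun g hg => ?_⟩
  by_cases h : g ∈ D
  · obtain ⟨i, j, e⟩ := hD g h
    exact ⟨i, j, .inl e⟩
  · obtain ⟨i, j, e⟩ := hD (g * s) ((mul_mem_iff_of_index_two i2
      (a := ⟨g, mem_centralizer_singleton_iff.2 hg⟩)
      (b := ⟨s, mem_centralizer_singleton_iff.2 (mul_inv_eq_iff_eq_mul.1 (by
        rw [← conj_mul, s2, s3, zt.eq]))⟩)).2 (iff_of_false h sD))
    exact ⟨i, j, .inr (by rw [← e, mul_assoc, ss, mul_one])⟩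

end Cfsg.Agent.H63.L3A
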