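import Cfsg.Agent.H78.McDefs
import Cfsg.Agent.H5.PE1
import Cfsg.Agent.H90.MaxClassPow

set_option autoImplicit false

namespace Cfsg.Agent.H63.McUni

open Subgroup Cfsg.Agent Cfsg.Agent.H78.Mc
open scoped commutatorElement

universe u

theorem uni : UniStmt.{u} := by
  intro P _ _ p n hp hP hn hcl M hM
  classical
  have m := H90.maxCl_of_nilpotencyClass (by omega) hP hcl
  obtain ⟨c, rfl⟩ : ∃ c, n = c + 2 := ⟨n - 2, by omega⟩
  simp only [Nat.add_sub_cancel] at m
  have pg := m.isPGroup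
  have h : H5.MxC p (⊤ : Subgroup P) c := ⟨by rw [card_top]; exact hP, m.ne_bot⟩
  have p2 := hp.out.two_le
  have low : ∀ x : P, p ^ 2 ≤ Nat.card (centralizer ({x} : Set P)) := fun x => by
    have := H5.relIndex_le_card_centralizer (H := ⊤) (D := H5.lc ⊤ 1) le_top (y := x)
      (fun g _ => commutator_mem_commutator (mem_top g) (mem_top x))
    rw [h.relIndex_lc_top le_rfl (by omega), inf_top_eq] at this
    exact this
  have three : ∀ A B : Subgroup P, A ≠ ⊤ → B ≠ ⊤ → (3 ≤ p ∨ A = B) →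
      ∃ x, x ∉ M ∧ x ∉ A ∧ x ∉ B := fun A B hA hB h3 => by
    rcases h3 with h3 | rfl
    · obtain ⟨s, hs⟩ := H90.exists_not_mem_of_card_le pg (Finset.univ : Finset (Fin 3))
        (by simpa using h3) ![M, A, B] (fun j _ => by fin_cases j <;> simpa)
      exact ⟨s, hs 0 (by simp), hs 1 (by simp), hs 2 (by simp)⟩
    · obtain ⟨s, hs⟩ := H90.exists_not_mem_of_card_le pg (Finset.univ : Finset (Fin 2))
        (by simpa using p2) ![M, A] (fun j _ => by fin_cases j <;> simpa)
      exact ⟨s, hs 0 (by simp), hs 1 (by simp), hs 1 (by simp)⟩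
  by_cases hc : 2 ≤ c
  · have mx : H5.PE.MX p (⊤ : Subgroup P) c := ⟨h, hc⟩
    have ne : ∀ A : Subgroup P, A.relIndex ⊤ = p → A ≠ ⊤ := fun A e e' => by
      rw [e'] at e; simp at e; omega
    obtain ⟨x, h1, h2, h3⟩ := three _ _ (ne _ mx.rel0) (ne _ mx.relQ) (by
      by_cases e : 3 ≤ p
      · exact Or.inl e
      · exact Or.inr (mx.nx_of (by omega)).symm)
    refine ⟨x, h1, le_antisymm ?_ (low x)⟩
    have := h.card_centralizer_le hc (mx.uni_of (mem_top x) h2 h3) (H := ⊤) le_rfl
    rwa [inf_top_eq] at this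
  · obtain rfl : c = 1 := by omega
    have zc : center P ≠ ⊤ := fun e => by
      apply m.ne_bot
      refine eq_bot_iff.2 (commutator_le.2 fun a _ b _ => ?_)
      have hb : b ∈ center P := e ▸ mem_top b
      exact mem_bot.2 (commutatorElement_eq_one_iff_mul_comm.2 (mem_center_iff.1 hb a))
    obtain ⟨x, h1, h2, -⟩ := three _ _ zc zc (Or.inr rfl)
    refine ⟨x, h1, le_antisymm ?_ (low x)⟩
    have lt : centralizer ({x} : Set P) < ⊤ := lt_top_iff_ne_top.2 fun e => h2
      (mem_center_iff.2 fun g => mem_centralizer_singleton_iff.1 (e ▸ mem_top g))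
    have := H90.card_mul_le_of_lt pg lt
    rw [card_top, hP, show 1 + 2 = 2 + 1 from rfl, pow_succ] at this
    exact Nat.le_of_mul_le_mul_right this hp.out.pos

end Cfsg.Agent.H63.McUni
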