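import Cfsg.Agent.H42.PcDefs

/-! Project PC: piece ORB. -/

set_option autoImplicit false

namespace Cfsg.Agent.H63.PcOrb

open Cfsg.Agent.H42.Pc MulAction

universe u

theorem orb : OrbStmt.{u} := by
  intro S Ω _ _ _ _ T A c l hT hl hc hst hA hinv hmeet x hx s hs
  classical
  by_contra no
  push Not at no
  let Q := orbitRel.Quotient S Ω
  have : Fintype Q := Fintype.ofFinite Q
  have os : ∀ y : Ω, Nat.card (orbit S y) * c = Nat.card S := fun y => by
    rw [← hst y, ← Nat.card_prod]; exact Nat.card_congr (orbitProdStabilizerEquivGroup S y)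
  have h1 : Nat.card Ω * c = Fintype.card Q * Nat.card S := by
    rw [Nat.card_congr (selfEquivSigmaOrbits S Ω), Nat.card_sigma, Finset.sum_mul]
    simp only [os]
    simp [Q]
  have h2 : c = Fintype.card Q * l := by
    have : Nonempty Ω := ⟨x⟩
    have p : 0 < Nat.card Ω := Nat.card_pos
    apply Nat.eq_of_mul_eq_mul_left p
    rw [h1, ← hc]; ring
  have qpos : 0 < Fintype.card Q := Fintype.card_pos_iff.2 ⟨Quotient.mk _ x⟩
  have h3 : ∀ y : Ω, Nat.card T ≤ Fintype.card Q * Nat.card (orbit T y) := by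
    intro y
    have e : Nat.card (orbit T y) * Nat.card (stabilizer T y) = Nat.card T := by
      rw [← Nat.card_prod]; exact Nat.card_congr (orbitProdStabilizerEquivGroup T y)
    have d : Nat.card (stabilizer T y) ∣ c := by
      rw [← hst y]
      refine Subgroup.card_dvd_of_injective
        ((T.subtype.comp (stabilizer T y).subtype).codRestrict (stabilizer S y) fun g => g.2) ?_
      intro a b h
      exact Subtype.ext (Subtype.ext (congrArg (fun z : stabilizer S y => (z : S)) h))
    obtain ⟨k, hk⟩ := (IsPGroup.iff_card (p := 2)).1 (hT.to_subgroup (stabilizer T y))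
    rw [hk, h2] at d
    have d2 : 2 ^ k ∣ Fintype.card Q :=
      Nat.Coprime.dvd_of_dvd_mul_right (Nat.Coprime.pow_left k ((Nat.coprime_two_left).2 hl)) d
    rw [← e, hk, mul_comm]
    exact Nat.mul_le_mul_right _ (Nat.le_of_dvd qpos d2)
  have ex : ∀ q : Q, ∃ r ∈ A, (Quotient.mk _ r : Q) = q ∧ (q = Quotient.mk _ x → r = x) := by
    intro q
    by_cases e : q = Quotient.mk _ x
    · exact ⟨x, hx, e.symm, fun _ => rfl⟩
    · obtain ⟨y, rfl⟩ := Quotient.exists_rep q
      obtain ⟨g, hg⟩ := hmeet y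
      exact ⟨g • y, hg, Quotient.sound ⟨g, rfl⟩, fun h => absurd h e⟩
  choose r r1 r2 r3 using ex
  have cls : ∀ q (y : orbit T (r q)), (Quotient.mk _ y.1 : Q) = q := by
    rintro q ⟨_, t, rfl⟩
    exact (Quotient.sound ⟨(t : S), rfl⟩ : (Quotient.mk _ _ : Q) = Quotient.mk _ (r q)).trans (r2 q)
  let f : (Σ q : Q, orbit T (r q)) → ↥(A \ {s • x}) := fun z => ⟨z.2.1, by
    obtain ⟨q, _, t, rfl⟩ := z
    exact hinv _ (r1 q) t t.2, by
    obtain ⟨q, y, t, ht⟩ := z
    intro (e : y = s • x)
    have a : q = Quotient.mk _ x := by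
      rw [← cls q ⟨y, t, ht⟩]
      exact Quotient.sound ⟨s, e.symm⟩
    refine no t t.2 ?_
    rw [← e, ← ht, r3 q a]; rfl⟩
  have finj : Function.Injective f := by
    rintro ⟨q, y⟩ ⟨q', y'⟩ h
    have e : y.1 = y'.1 := congrArg Subtype.val h
    have : q = q' := by rw [← cls q y, ← cls q' y', e]
    subst this
    rw [Subtype.ext e]
  have b1 := Nat.card_le_card_of_injective f finj
  have b2 : Nat.card ↥(A \ {s • x}) < Nat.card A := by
    rw [Nat.card_coe_set_eq, Nat.card_coe_set_eq]
    exact Set.ncard_sdiff_singleton_lt_of_mem hs (Set.toFinite A)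
  rw [Nat.card_sigma] at b1
  have b3 : Fintype.card Q * Nat.card T ≤ Fintype.card Q * ∑ q : Q, Nat.card (orbit T (r q)) := by
    rw [Finset.mul_sum]
    calc Fintype.card Q * Nat.card T = ∑ _q : Q, Nat.card T := by simp
      _ ≤ _ := Finset.sum_le_sum fun q _ => h3 (r q)
  have := Nat.le_of_mul_le_mul_left b3 qpos
  omega

end Cfsg.Agent.H63.PcOrb
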