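import Cfsg.Agent.H40.L3K0

/-! An involution `t` fixing a unique coset of `P`: control of 2-subgroups and of fusion. -/

set_option autoImplicit false
set_option linter.unusedSectionVars false

namespace Cfsg.Agent.H63.UK

open Subgroup Cfsg.Agent.H83

variable {G : Type*} [Group G] [Finite G] {P : Subgroup G} {t : G}

/-- `t ∈ P` and `g t g⁻¹ ∈ P` forces `g ∈ P` -/
structure Uq (P : Subgroup G) (t : G) : Prop where
  mem : t ∈ P
  sq : t * t = 1
  uq : ∀ g, g * t * g⁻¹ ∈ P → g ∈ P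

namespace Uq

theorem conj (h : Uq P t) {x : G} (hx : x ∈ P) : Uq P (x * t * x⁻¹) where
  mem := P.mul_mem (P.mul_mem hx h.mem) (P.inv_mem hx)
  sq := by rw [show x * t * x⁻¹ * (x * t * x⁻¹) = x * (t * t) * x⁻¹ by group, h.sq]; group
  uq g hg := by
    have := h.uq (g * x) (by simpa only [mul_inv_rev, mul_assoc] using hg)
    simpa using P.mul_mem this (P.inv_mem hx)

/-- a subgroup of `P` containing `t` has its normalizer in `P` -/
theorem norm_le (h : Uq P t) {S : Subgroup G} (hS : S ≤ P) (ht : t ∈ S) :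
    normalizer (S : Set G) ≤ P := fun g hg => h.uq g (hS ((mem_normalizer_iff.1 hg t).1 ht))

/-- a 2-subgroup containing `t` lies in `P` -/
theorem two_le (h : Uq P t) {S : Subgroup G} (hS : IsPGroup 2 S) (ht : t ∈ S) : S ≤ P := by
  have := H40.L3.eq_of_norm (S := S ⊓ P) hS inf_le_left fun m hm hn =>
    ⟨hm, h.norm_le inf_le_right ⟨ht, h.mem⟩ hn⟩
  exact this ▸ inf_le_right

theorem zp (h : Uq P t) (g : G) : IsPGroup 2 (zpowers (g * t * g⁻¹)) :=
  isPGroup_zpowers (k := 1) (by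
    rw [pow_one, pow_two, show g * t * g⁻¹ * (g * t * g⁻¹) = g * (t * t) * g⁻¹ by group, h.sq]; group)

/-- a Sylow 2-subgroup of `H ⊓ P` containing `t` is a Sylow 2-subgroup of `H` -/
theorem syl (h : Uq P t) {S H : Subgroup G} (hS : IsSylowIn 2 S (H ⊓ P)) (ht : t ∈ S) :
    IsSylowIn 2 S H :=
  ⟨hS.le.trans inf_le_left, hS.isPGroup, fun Q hQ hp hle =>
    hS.max Q (le_inf hQ (h.two_le hp (hle ht))) hp hle⟩

/-- the core of fusion control: if `H` contains `g t g⁻¹` and `x t x⁻¹` with `x ∈ P`, then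
`g ∈ H P` -/
theorem fus (h : Uq P t) (H : Subgroup G) {g x : G} (h1 : g * t * g⁻¹ ∈ H) (hx : x ∈ P)
    (h2 : x * t * x⁻¹ ∈ H) : ∃ c ∈ H, c * g ∈ P := by
  haveI : Fact (Nat.Prime 2) := ⟨Nat.prime_two⟩
  obtain ⟨S, hS, hle⟩ := exists_isSylowIn_ge (zpowers_le.2 h2) (h.zp x)
  have hSP := (h.conj hx).two_le hS.isPGroup (hle (mem_zpowers _))
  obtain ⟨c, hc, e⟩ := hS.exists_conj_le (zpowers_le.2 h1) (h.zp g)
  refine ⟨c, hc, h.uq _ (hSP (e ?_))⟩
  rw [mem_cj]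
  simpa [mul_assoc] using mem_zpowers (g * (t * g⁻¹))

/-- fusion of elements centralized by conjugates of `t` in `P`, inside a subgroup `H` -/
theorem fus_elt (h : Uq P t) (H : Subgroup G) {g u x y : G} (hg : g ∈ H) (hx : x ∈ P) (hy : y ∈ P)
    (xH : x * t * x⁻¹ ∈ H) (yH : y * t * y⁻¹ ∈ H) (xu : x * t * x⁻¹ * u = u * (x * t * x⁻¹))
    (yv : y * t * y⁻¹ * (g * u * g⁻¹) = g * u * g⁻¹ * (y * t * y⁻¹)) :
    ∃ p ∈ H ⊓ P, p * u * p⁻¹ = g * u * g⁻¹ := by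
  obtain ⟨c, ⟨c1, c2⟩, hc⟩ := h.fus (H ⊓ centralizer {g * u * g⁻¹}) (g := g * x) (mem_inf.2 ⟨by
      simpa only [mul_inv_rev, mul_assoc] using H.mul_mem (H.mul_mem hg xH) (H.inv_mem hg),
    mem_centralizer_singleton_iff.2 (by
      rw [show g * x * t * (g * x)⁻¹ * (g * u * g⁻¹) = g * (x * t * x⁻¹ * u) * g⁻¹ by group, xu]
      group)⟩) hy ⟨yH, mem_centralizer_singleton_iff.2 yv⟩
  refine ⟨c * g, ⟨H.mul_mem c1 hg, by simpa [mul_assoc] using P.mul_mem hc (P.inv_mem hx)⟩, ?_⟩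
  rw [show c * g * u * (c * g)⁻¹ = c * (g * u * g⁻¹) * c⁻¹ by group,
    mem_centralizer_singleton_iff.1 c2]
  group

/-- fusion of subgroups normalized by conjugates of `t` in `P`, inside a subgroup `H` -/
theorem fus_sub (h : Uq P t) (H A : Subgroup G) {g x y : G} (hg : g ∈ H) (hx : x ∈ P) (hy : y ∈ P)
    (xH : x * t * x⁻¹ ∈ H) (yH : y * t * y⁻¹ ∈ H) (xu : x * t * x⁻¹ ∈ normalizer (A : Set G))
    (yv : y * t * y⁻¹ ∈ normalizer ((cj g A : Subgroup G) : Set G)) :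
    ∃ p ∈ H ⊓ P, cj p A = cj g A := by
  obtain ⟨c, ⟨c1, c2⟩, hc⟩ := h.fus (H ⊓ normalizer ((cj g A : Subgroup G) : Set G)) (g := g * x)
    (mem_inf.2 ⟨by
      simpa only [mul_inv_rev, mul_assoc] using H.mul_mem (H.mul_mem hg xH) (H.inv_mem hg), by
      rw [← cj_eq_self_iff, ← cj_mul,
        show g * x * t * (g * x)⁻¹ * g = g * (x * t * x⁻¹) by group, cj_mul,
        cj_eq_self xu]⟩) hy ⟨yH, yv⟩
  refine ⟨c * g, ⟨H.mul_mem c1 hg, by simpa [mul_assoc] using P.mul_mem hc (P.inv_mem hx)⟩, ?_⟩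
  rw [cj_mul, cj_eq_self c2]

end Uq

end Cfsg.Agent.H63.UK
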